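import Mathlib
import Cfsg.Agent.Lib.ChTab.Inv

/-!
A search over all ways to distribute a list of rows among blocks of given shapes.
-/

set_option autoImplicit false

namespace CfsgLib.ChTab

open Finset

variable {α : Type}

/-- Equality of integers. -/
noncomputable def ieq (a b : ℤ) : Bool :=
  Int.rec (fun n => Int.rec (fun m => Nat.beq n m) (fun _ => false) b)
    (fun n => Int.rec (fun _ => false) (fun m => Nat.beq n m) b) a

/-- Equality of rows. -/
noncomputable def eq0 (a b : ℕ × ℤ) : Bool := Bool.rec false (ieq a.2 b.2) (Nat.beq a.1 b.1)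

/-- Equality of tagged rows. -/
noncomputable def eqT (f : α → α → Bool) (a b : α × ℤ × Bool) : Bool :=
  Bool.rec false (Bool.rec false (Bool.rec (!b.2.2) b.2.2 a.2.2) (ieq a.2.1 b.2.1)) (f a.1 b.1)

/-- The value `± a` of a row of degree `d`, or zero. -/
noncomputable def sv (p im a d : ℕ) : ℤ :=
  Bool.rec (Bool.rec 0 (Bool.rec 0 (Bool.rec 0 (Int.negOfNat a) (Nat.beq (Nat.mod im d) 0))
      (Nat.ble a d)) (Nat.beq (Nat.mod (Nat.sub d a) p) 0))
    (Bool.rec 0 (Int.ofNat a) (Nat.beq (Nat.mod im d) 0)) (Nat.beq (Nat.mod (Nat.add d a) p) 0)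

/-- The shape of a block. -/
structure Sh where
  (c im a jn n nx t : ℕ)

/-- The value on a non-exceptional row. -/
noncomputable def Sh.x (S : Sh) (p d : ℕ) : ℤ := sv p S.im S.a d

/-- The value on an exceptional row. -/
noncomputable def Sh.y (S : Sh) (p d : ℕ) : ℤ := Bool.rec (sv p S.jn S.n d) 0 (Nat.beq S.t 0)

/-- All choices of the members of one block. -/
noncomputable def pick (eqb : α → α → Bool) (w : α → ℤ) (t : ℕ) (fl : Bool)
    (k : List α → List (α × ℤ × Bool) → Bool) (l : List (α × ℤ × ℤ)) :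
    Bool → ℕ → ℕ → (α → Bool) → (α → Bool) → ℤ → List α → List (α × ℤ × Bool) → Bool :=
  List.rec (fun _ _ cy _ _ s rest acc => Bool.rec true
      (Bool.rec (Bool.rec true (k rest acc) (Nat.beq cy t)) (k rest acc) (Nat.beq cy 0)) (ieq s 0))
    (fun e _ ih hd nx cy yo sk s rest acc => Prod.rec (fun a e' => Prod.rec (fun x y =>
      Bool.rec false (Bool.rec (Bool.rec false
        (Bool.rec (Bool.rec (Bool.rec true (frcI (Int.add s (Int.mul y (w a))) fun s' =>
          frc (Nat.succ cy) fun cy' => ih false nx cy' (eqb a) sk s' rest ((a, y, fl) :: acc))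
          (yo a)) true (Nat.ble t cy)) true (ieq y 0))
        (Bool.rec (Nat.rec true (fun nx' _ => frcI (Int.add s (Int.mul x (w a))) fun s' =>
          ih false nx' cy yo sk s' rest ((a, x, fl) :: acc)) nx) true (ieq x 0))) true (sk a))
        (Bool.rec (ih false nx cy yo (eqb a) s (a :: rest) acc) true hd)) e') e) l

/-- The rows that may belong to a block, and the others. -/
noncomputable def spl (fx fy : α → ℤ) (l : List α) :
    (List (α × ℤ × ℤ) → List α → Bool) → Bool :=
  List.rec (fun k => k [] []) (fun a _ ih k => frcI (fx a) fun x => frcI (fy a) fun y =>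
    Bool.rec (ih fun el ne => k ((a, x, y) :: el) ne)
      (Bool.rec (ih fun el ne => k ((a, x, y) :: el) ne) (ih fun el ne => k el (a :: ne)) (ieq y 0))
      (ieq x 0)) l

/-- All distributions among non-principal blocks. -/
noncomputable def cov (eqb : α → α → Bool) (d : α → ℕ) (w : α → ℤ) (p : ℕ) (SH : List Sh)
    (good : List (α × ℤ × Bool) → Bool) (fuel : ℕ) : List α → ℕ → List (α × ℤ × Bool) → Bool :=
  Nat.rec (fun _ _ _ => false) (fun _ ih rows K acc => List.rec (good acc) (fun a rows' _ =>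
    List.rec true (fun S _ ihS => Bool.rec false ihS (Bool.rec true
      (frcI (S.x p (d a)) fun x => frcI (S.y p (d a)) fun y => Bool.rec
        (spl (fun b => S.x p (d b)) (fun b => S.y p (d b)) rows' fun el ne =>
          frc (Nat.sub K S.c) fun K' => pick eqb w S.t false (fun r acc' => ih r K' acc')
            ((a, x, y) :: el) true S.nx 0 (fun _ => true) (fun _ => false) 0 ne acc)
        true (Bool.rec false (ieq y 0) (ieq x 0))) (Nat.ble S.c K))) SH) rows) fuel

/-- The rows of degree prime to `p`; the others are tagged with zero. -/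
noncomputable def spz (d : α → ℕ) (p : ℕ) (l : List α) :
    (List α → List (α × ℤ × Bool) → Bool) → Bool :=
  List.rec (fun k => k [] []) (fun a _ ih k => Bool.rec (ih fun r z => k (a :: r) z)
    (ih fun r z => k r ((a, 0, false) :: z)) (Nat.beq (Nat.mod (d a) p) 0)) l

/-- All distributions among the `p`-blocks. -/
noncomputable def covA (eqb : α → α → Bool) (d : α → ℕ) (w : α → ℤ) (p k : ℕ) (S : Sh)
    (SH : List Sh) (s0 : ℤ) (pf : ℕ → Bool) (good : List (α × ℤ × Bool) → Bool) (l : List α) :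
    Bool :=
  spz d p l fun r z => spl (fun b => Bool.rec 0 (S.x p (d b)) (pf (d b)))
    (fun b => Bool.rec 0 (S.y p (d b)) (pf (d b))) r fun el ne => frc (Nat.pred k) fun K =>
      frc (Nat.pred S.nx) fun nx => pick eqb w S.t true
        (fun r acc => cov eqb d w p SH good 30 r K acc) el false nx 0 (fun _ => true)
          (fun _ => false) s0 ne z

/-- The shape of a block from the length `o` of an orbit and the degree `f`. -/
def mkSh (I p e o f : ℕ) : Sh :=
  ⟨o * f * f, I * (o * f), (p - 1) * (o * f), I * (e * f), e * f, if e / o + 1 = p then p else e / o,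
    if e / o + 1 = p then 0 else (p - 1) / (e / o)⟩

/-- All shapes. -/
noncomputable def shp (I p e k : ℕ) : List Sh :=
  (divs e e).reverse.flatMap fun o =>
    ((divs k k).reverse.filter fun f => Nat.ble (o * f * f) k).map (mkSh I p e o)

/-- Evaluation of a shape. -/
noncomputable def frcS (S : Sh) (k : Sh → Bool) : Bool :=
  frc S.c fun c => frc S.im fun im => frc S.a fun a => frc S.jn fun jn => frc S.n fun n =>
    frc S.nx fun nx => frc S.t fun t => k ⟨c, im, a, jn, n, nx, t⟩

/-- Evaluation of a list of shapes. -/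
noncomputable def frcSL (l : List Sh) : (List Sh → Bool) → Bool :=
  List.rec (fun k => k []) (fun S _ ih k => frcS S fun S' => ih fun l' => k (S' :: l')) l

/-- The data for one prime. -/
abbrev Cf := ℕ × ℕ × Sh × List Sh

/-- The data from `e` and `k`. -/
noncomputable def mkCf (N p : ℕ) (a : ℕ × ℕ) : Cf :=
  (a.1, a.2, mkSh (N / (p * a.2)) p a.1 1 1, shp (N / (p * a.2)) p a.1 a.2)

/-- Evaluation of the data. -/
noncomputable def frcC (N p : ℕ) (l : List (ℕ × ℕ)) : (List Cf → Bool) → Bool :=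
  List.rec (fun k => k []) (fun a _ ih k => frcS (mkCf N p a).2.2.1 fun S =>
    frcSL (mkCf N p a).2.2.2 fun SH => ih fun l' => k ((a.1, a.2, S, SH) :: l')) l

/-- `covA` for given data. -/
noncomputable def covC (eqb : α → α → Bool) (d : α → ℕ) (w : α → ℤ) (p q : ℕ) (C : Cf)
    (pf : ℕ → Bool) (good : List (α × ℤ × Bool) → Bool) (l : List α) : Bool :=
  covA eqb d w p C.2.1 C.2.2.1 C.2.2.2 (Int.ofNat (Nat.mul (Nat.pred p) (Nat.pred q))) pf good l

/-- The sum in the class multiplication test. -/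
noncomputable def qsum (N : ℕ) (d : α → ℕ) (w u v : α → ℤ) (l : List α) : ℤ → (ℤ → Bool) → Bool :=
  List.rec (fun s k => k s) (fun a _ ih s k => Bool.rec
    (frcI (Int.add s (Int.mul (Int.ofNat (Nat.div N (d a))) (Int.mul (w a) (Int.mul (u a) (v a)))))
      fun s' => ih s' k) (ih s k) (ieq (v a) 0)) l

/-- The class multiplication test. -/
noncomputable def qok (N c k m : ℕ) (d : α → ℕ) (w u v : α → ℤ) (l : List α) : Bool :=
  qsum N d w u v l (Int.ofNat (Nat.mul N c)) fun s =>
    Int.rec (fun n => Nat.beq (Nat.mod (Nat.mul k n) m) 0) (fun _ => false) s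

theorem ieq_iff {a b : ℤ} : ieq a b = true ↔ a = b := by
  cases a <;> cases b <;> simp [ieq]

theorem ieq_of_ne {a b : ℤ} (h : a ≠ b) : ieq a b = false :=
  Bool.eq_false_iff.mpr fun e => h (ieq_iff.mp e)

theorem ieq_self (a : ℤ) : ieq a a = true := ieq_iff.mpr rfl

theorem eq0_iff (a b : ℕ × ℤ) : eq0 a b = true ↔ a = b := by
  rw [eq0, Prod.ext_iff, ← ieq_iff, ← Nat.beq_eq]
  cases Nat.beq a.1 b.1 <;> simp

theorem eqT_iff {f : α → α → Bool} (h : ∀ a b, f a b = true ↔ a = b) (a b : α × ℤ × Bool) :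
    eqT f a b = true ↔ a = b := by
  rw [eqT, Prod.ext_iff, Prod.ext_iff, ← ieq_iff, ← h]
  cases f a.1 b.1 <;> cases ieq a.2.1 b.2.1 <;> cases a.2.2 <;> cases b.2.2 <;> simp

theorem sv_eq {p im a d : ℕ} {v : ℤ} (h1 : v = a ∨ v = -a) (h2 : (p : ℤ) ∣ d + v)
    (h3 : 0 ≤ (d : ℤ) + v) (h4 : d ∣ im) (h5 : ¬ p ∣ 2 * d) : sv p im a d = v := by
  have e : Nat.beq (Nat.mod im d) 0 = true := Nat.beq_eq.mpr (Nat.mod_eq_zero_of_dvd h4)
  rw [sv, e]
  rcases h1 with rfl | rfl
  · rw [show Nat.beq (Nat.mod (Nat.add d a) p) 0 = true from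
      Nat.beq_eq.mpr (Nat.mod_eq_zero_of_dvd (by exact_mod_cast h2))]
    rfl
  · have h6 : a ≤ d := by omega
    have h7 : p ∣ d - a := by
      rw [← Int.natCast_dvd_natCast, Nat.cast_sub h6]; exact h2
    rw [show Nat.beq (Nat.mod (Nat.add d a) p) 0 = false from Bool.eq_false_iff.mpr fun e' =>
      h5 (by
        have := dvd_add (Nat.dvd_of_mod_eq_zero (Nat.beq_eq.mp e') : p ∣ d + a) h7
        rwa [show d + a + (d - a) = 2 * d by omega] at this),
      show Nat.beq (Nat.mod (Nat.sub d a) p) 0 = true from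
        Nat.beq_eq.mpr (Nat.mod_eq_zero_of_dvd h7), Nat.ble_eq.mpr h6]
    exact Int.negOfNat_eq

theorem pick_sound {eqb : α → α → Bool} (he : ∀ a b, eqb a b = true ↔ a = b) {w : α → ℤ} {t : ℕ}
    {fl : Bool} {k : List α → List (α × ℤ × Bool) → Bool} (fx fy : α → ℤ) (L : List α) :
    ∀ (hd : Bool) (nx cy : ℕ) (yo sk : α → Bool) (s : ℤ) (rest : List α)
      (acc : List (α × ℤ × Bool)) (T X Y : Multiset α), (L : Multiset α) = T + X + Y →
      (∀ a ∈ X, fx a ≠ 0 ∧ sk a = false) → (∀ a ∈ Y, fy a ≠ 0 ∧ sk a = false ∧ yo a = true) →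
      (∀ a ∈ Y, ∀ b ∈ Y, a = b) → X.card ≤ nx → (cy + Y.card = 0 ∨ cy + Y.card = t) →
      s + (X.map fun a => fx a * w a).sum + (Y.map fun a => fy a * w a).sum = 0 →
      (hd = true → ∃ a ∈ X + Y, L.head? = some a) →
      pick eqb w t fl k (L.map fun a => (a, fx a, fy a)) hd nx cy yo sk s rest acc = true →
      ∃ (rest' : List α) (acc' : List (α × ℤ × Bool)), (rest' : Multiset α) = T + rest ∧
        (acc' : Multiset (α × ℤ × Bool)) =
          X.map (fun a => (a, fx a, fl)) + Y.map (fun a => (a, fy a, fl)) + acc ∧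
        k rest' acc' = true := by
  classical
  induction L with
  | nil =>
    intro hd nx cy yo sk s rest acc T X Y h1 _ _ _ _ h6 h7 _ h
    obtain ⟨h2, rfl⟩ := add_eq_zero.mp h1.symm
    obtain ⟨rfl, rfl⟩ := add_eq_zero.mp h2
    refine ⟨rest, acc, by simp, by simp, ?_⟩
    change Bool.rec true (Bool.rec (Bool.rec true (k rest acc) (Nat.beq cy t)) (k rest acc)
      (Nat.beq cy 0)) (ieq s 0) = true at h
    rw [show s = 0 by simpa using h7, ieq_self] at h
    rcases h6 with h6 | h6
    · rwa [show cy = 0 by simpa using h6] at h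
    · rw [show Nat.beq cy t = true from Nat.beq_eq.mpr (by simpa using h6)] at h
      revert h
      cases Nat.beq cy 0 <;> exact id
  | cons a L ih =>
    intro hd nx cy yo sk s rest acc T X Y h1 h2 h3 h4 h5 h6 h7 h8 h
    change Bool.rec false (Bool.rec (Bool.rec false
        (Bool.rec (Bool.rec (Bool.rec true (frcI (s + fy a * w a) fun s' =>
          pick eqb w t fl k (L.map fun a => (a, fx a, fy a)) false nx (cy + 1) (eqb a) sk s' rest
            ((a, fy a, fl) :: acc)) (yo a)) true (Nat.ble t cy)) true (ieq (fy a) 0))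
        (Bool.rec (Nat.rec true (fun nx' _ => frcI (s + fx a * w a) fun s' =>
          pick eqb w t fl k (L.map fun a => (a, fx a, fy a)) false nx' cy yo sk s' rest
            ((a, fx a, fl) :: acc)) nx) true (ieq (fx a) 0))) true (sk a))
        (Bool.rec (pick eqb w t fl k (L.map fun a => (a, fx a, fy a)) false nx cy yo (eqb a) s
          (a :: rest) acc) true hd) = true at h
    simp only [frcI_eq] at h
    rw [← Multiset.cons_coe] at h1
    have hf : ∀ {b c : Bool}, (Bool.rec false b c : Bool) = true → b = true ∧ c = true := by decide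
    by_cases hX : a ∈ X
    · obtain ⟨X, rfl⟩ := Multiset.exists_cons_of_mem hX
      rw [(h2 a hX).2, ieq_of_ne (h2 a hX).1] at h
      rw [Multiset.card_cons] at h5
      obtain ⟨nx, rfl⟩ := Nat.exists_eq_succ_of_ne_zero (show nx ≠ 0 by omega)
      obtain ⟨r, c, e1, e2, e3⟩ := ih false nx cy yo sk _ rest _ T X Y
        (by rwa [Multiset.add_cons, Multiset.cons_add, Multiset.cons_inj_right] at h1)
        (fun b hb => h2 b (Multiset.mem_cons_of_mem hb)) h3 h4 (by omega) h6
        (by rw [← h7, Multiset.map_cons, Multiset.sum_cons]; ring) (by simp) (hf (hf h).1).2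
      exact ⟨r, c, e1, by
        rw [e2, ← Multiset.cons_coe, Multiset.map_cons, Multiset.cons_add, Multiset.cons_add,
          Multiset.add_cons], e3⟩
    by_cases hY : a ∈ Y
    · obtain ⟨Y, rfl⟩ := Multiset.exists_cons_of_mem hY
      rw [Multiset.card_cons] at h6
      rw [(h3 a hY).2.1, ieq_of_ne (h3 a hY).1, (h3 a hY).2.2, show Nat.ble t cy = false from
        Bool.eq_false_iff.mpr fun e => by have := Nat.ble_eq.mp e; omega] at h
      obtain ⟨r, c, e1, e2, e3⟩ := ih false nx (cy + 1) (eqb a) sk _ rest _ T X Y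
        (by rwa [Multiset.add_cons, Multiset.cons_inj_right] at h1) h2
        (fun b hb => ⟨(h3 b (Multiset.mem_cons_of_mem hb)).1,
          (h3 b (Multiset.mem_cons_of_mem hb)).2.1,
          (he _ _).mpr (h4 a hY b (Multiset.mem_cons_of_mem hb))⟩)
        (fun b hb c hc => h4 b (Multiset.mem_cons_of_mem hb) c (Multiset.mem_cons_of_mem hc)) h5
        (by omega) (by rw [← h7, Multiset.map_cons, Multiset.sum_cons]; ring) (by simp)
        (hf (hf h).1).1
      exact ⟨r, c, e1, by
        rw [e2, ← Multiset.cons_coe, Multiset.map_cons, Multiset.add_cons, Multiset.add_cons,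
          Multiset.cons_add], e3⟩
    have hT : a ∈ T := by
      have := h1 ▸ Multiset.mem_cons_self a (L : Multiset α)
      simpa [hX, hY] using this
    obtain ⟨T, rfl⟩ := Multiset.exists_cons_of_mem hT
    cases hd with
    | true =>
      obtain ⟨b, hb, e⟩ := h8 rfl
      obtain rfl : a = b := by simpa using e
      simp [hX, hY] at hb
    | false =>
      obtain ⟨r, c, e1, e2, e3⟩ := ih false nx cy yo (eqb a) s (a :: rest) acc T X Y
        (by rwa [Multiset.cons_add, Multiset.cons_add, Multiset.cons_inj_right] at h1)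
        (fun b hb => ⟨(h2 b hb).1, Bool.eq_false_iff.mpr fun e => hX ((he _ _).mp e ▸ hb)⟩)
        (fun b hb => ⟨(h3 b hb).1, Bool.eq_false_iff.mpr fun e => hY ((he _ _).mp e ▸ hb),
          (h3 b hb).2.2⟩) h4 h5 h6 h7 (by simp) (hf h).2
      exact ⟨r, c, by rw [e1, ← Multiset.cons_coe, Multiset.add_cons, Multiset.cons_add], e2, e3⟩

theorem spl_sound (fx fy : α → ℤ) (l : List α) : ∀ k : List (α × ℤ × ℤ) → List α → Bool,
    spl fx fy l k = true → ∃ L ne : List α, (l : Multiset α) = L + ne ∧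
      (∀ a ∈ ne, fx a = 0 ∧ fy a = 0) ∧ k (L.map fun a => (a, fx a, fy a)) ne = true := by
  induction l with
  | nil => exact fun k h => ⟨[], [], rfl, by simp, h⟩
  | cons a l ih =>
    intro k h
    change (frcI (fx a) fun x => frcI (fy a) fun y =>
      Bool.rec (spl fx fy l fun el ne => k ((a, x, y) :: el) ne)
      (Bool.rec (spl fx fy l fun el ne => k ((a, x, y) :: el) ne)
        (spl fx fy l fun el ne => k el (a :: ne)) (ieq y 0)) (ieq x 0)) = true at h
    simp only [frcI_eq] at h
    have key : (spl fx fy l fun el ne => k ((a, fx a, fy a) :: el) ne) = true → ∃ L ne : List α,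
        ((a :: l : List α) : Multiset α) = L + ne ∧ (∀ a ∈ ne, fx a = 0 ∧ fy a = 0) ∧
          k (L.map fun a => (a, fx a, fy a)) ne = true := fun h => by
      obtain ⟨L, ne, e1, e2, e3⟩ := ih _ h
      exact ⟨a :: L, ne, by rw [← Multiset.cons_coe, ← Multiset.cons_coe, e1, Multiset.cons_add],
        e2, e3⟩
    by_cases hx : fx a = 0
    · by_cases hy : fy a = 0
      · rw [ieq_iff.mpr hx, ieq_iff.mpr hy] at h
        obtain ⟨L, ne, e1, e2, e3⟩ := ih _ h
        exact ⟨L, a :: ne, by rw [← Multiset.cons_coe, ← Multiset.cons_coe, e1, Multiset.add_cons],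
          List.forall_mem_cons.mpr ⟨⟨hx, hy⟩, e2⟩, e3⟩
      · rw [ieq_iff.mpr hx, ieq_of_ne hy] at h
        exact key h
    · rw [ieq_of_ne hx] at h
      exact key h

theorem exists_add_of_eq {T X Y L ne : Multiset α} (h : T + X + Y = L + ne)
    (h1 : ∀ a ∈ ne, a ∉ X ∧ a ∉ Y) : ∃ T', T = T' + ne ∧ L = T' + X + Y := by
  classical
  have : ne ≤ T := Multiset.le_iff_count.mpr fun a => by
    by_cases ha : a ∈ ne
    · have := congrArg (Multiset.count a) h
      simp only [Multiset.count_add, Multiset.count_eq_zero_of_notMem (h1 a ha).1,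
        Multiset.count_eq_zero_of_notMem (h1 a ha).2] at this
      omega
    · rw [Multiset.count_eq_zero_of_notMem ha]; exact Nat.zero_le _
  obtain ⟨T', rfl⟩ := Multiset.le_iff_exists_add.mp this
  exact ⟨T', add_comm _ _, add_right_cancel (b := ne) (by rw [← h]; abel)⟩

/-- The part of a block of shape `S`. -/
structure BlOK (d : α → ℕ) (w : α → ℤ) (p : ℕ) (S : Sh) (X Y : Multiset α) (s : ℤ) (dn : ℕ) :
    Prop where
  x : ∀ a ∈ X, S.x p (d a) ≠ 0
  y : ∀ a ∈ Y, S.y p (d a) ≠ 0
  eq : ∀ a ∈ Y, ∀ b ∈ Y, a = b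
  cx : X.card + dn ≤ S.nx
  cy : Y.card = 0 ∨ Y.card = S.t
  sum : s + (X.map fun a => S.x p (d a) * w a).sum + (Y.map fun a => S.y p (d a) * w a).sum = 0

/-- The tagged rows of a block. -/
noncomputable def tag (d : α → ℕ) (p : ℕ) (fl : Bool) (S : Sh) (X Y : Multiset α) :
    Multiset (α × ℤ × Bool) :=
  X.map (fun a => (a, S.x p (d a), fl)) + Y.map fun a => (a, S.y p (d a), fl)

theorem cov_sound {eqb : α → α → Bool} (he : ∀ a b, eqb a b = true ↔ a = b) {d : α → ℕ}
    {w : α → ℤ} {p : ℕ} {SH : List Sh} {good : List (α × ℤ × Bool) → Bool} {γ : Type*}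
    (sh : γ → Sh) (X Y : γ → Multiset α) (fuel : ℕ) : ∀ (Λ : Finset γ) (rows : List α) (K : ℕ)
      (acc : List (α × ℤ × Bool)), (∀ g ∈ Λ, sh g ∈ SH ∧ BlOK d w p (sh g) (X g) (Y g) 0 0) →
      (rows : Multiset α) = ∑ g ∈ Λ, (X g + Y g) → ∑ g ∈ Λ, (sh g).c ≤ K →
      cov eqb d w p SH good fuel rows K acc = true → ∃ out : List (α × ℤ × Bool),
        (out : Multiset (α × ℤ × Bool)) = ∑ g ∈ Λ, tag d p false (sh g) (X g) (Y g) +
          (acc : Multiset (α × ℤ × Bool)) ∧ good out = true := by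
  classical
  induction fuel with
  | zero => exact fun _ _ _ _ _ _ _ h => absurd h Bool.false_ne_true
  | succ fuel ih =>
    intro Λ rows K acc h1 h2 h3 h
    cases rows with
    | nil =>
      refine ⟨acc, ?_, h⟩
      rw [sum_eq_zero fun g hg => ?_, zero_add]
      obtain ⟨a, b⟩ := add_eq_zero.mp (sum_eq_zero_iff.mp h2.symm g hg)
      rw [tag, a, b]; rfl
    | cons a rows =>
      obtain ⟨g, hg, ha⟩ := Multiset.mem_sum.mp (h2 ▸ Multiset.mem_coe.mpr List.mem_cons_self)
      obtain ⟨m1, m2⟩ := h1 g hg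
      have hc : (sh g).c ≤ K := (single_le_sum (f := fun g => (sh g).c)
        (fun _ _ => Nat.zero_le _) hg).trans h3
      have key : ∀ (F : Sh → Bool) (l : List Sh), (List.rec true (fun S _ ihS =>
          Bool.rec false ihS (F S)) l : Bool) = true → ∀ S ∈ l, F S = true := fun F l => by
        induction l with
        | nil => simp
        | cons S l ih' =>
          intro e
          change (Bool.rec false _ (F S) : Bool) = true at e
          cases e' : F S
          · rw [e'] at e; exact absurd e Bool.false_ne_true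
          · rw [e'] at e; exact List.forall_mem_cons.mpr ⟨e', ih' e⟩
      have h4 : (Bool.rec true (frcI ((sh g).x p (d a)) fun x => frcI ((sh g).y p (d a)) fun y =>
          Bool.rec (spl (fun b => (sh g).x p (d b)) (fun b => (sh g).y p (d b)) rows fun el ne =>
            pick eqb w (sh g).t false (fun r acc' => cov eqb d w p SH good fuel r (K - (sh g).c)
              acc') ((a, x, y) :: el) true (sh g).nx 0 (fun _ => true) (fun _ => false) 0 ne acc)
            true (Bool.rec false (ieq y 0) (ieq x 0))) (Nat.ble (sh g).c K) : Bool) = true :=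
        key _ SH h _ m1
      simp only [frcI_eq] at h4
      rw [Nat.ble_eq.mpr hc, show (Bool.rec false (ieq ((sh g).y p (d a)) 0)
        (ieq ((sh g).x p (d a)) 0) : Bool) = false by
          rcases Multiset.mem_add.mp ha with e | e
          · rw [ieq_of_ne (m2.x a e)]
          · rw [ieq_of_ne (m2.y a e)]; cases ieq ((sh g).x p (d a)) 0 <;> rfl] at h4
      obtain ⟨L, ne, e1, e2, e3⟩ := spl_sound _ _ _ _ h4
      rw [← add_sum_erase _ _ hg, ← Multiset.cons_coe, e1, ← Multiset.cons_add, add_comm (X g + _),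
        ← add_assoc] at h2
      obtain ⟨T, e4, e5⟩ := exists_add_of_eq h2.symm fun b hb =>
        ⟨fun e => m2.x b e (e2 b hb).1, fun e => m2.y b e (e2 b hb).2⟩
      obtain ⟨r, c, f1, f2, f3⟩ := pick_sound he (fun b => (sh g).x p (d b))
        (fun b => (sh g).y p (d b)) (a :: L) true (sh g).nx 0 (fun _ => true) (fun _ => false) 0 ne
        acc T (X g) (Y g) e5 (fun b hb => ⟨m2.x b hb, rfl⟩) (fun b hb => ⟨m2.y b hb, rfl, rfl⟩)
        m2.eq m2.cx (by simpa using m2.cy) m2.sum (fun _ => ⟨a, ha, rfl⟩) e3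
      obtain ⟨out, g1, g2⟩ := ih (Λ.erase g) r (K - (sh g).c) c
        (fun g' hg' => h1 g' (mem_of_mem_erase hg')) (f1.trans e4.symm)
        (by rw [← add_sum_erase _ _ hg] at h3; omega) f3
      exact ⟨out, by rw [g1, f2, ← add_sum_erase _ _ hg, tag]; abel, g2⟩

theorem spz_eq (d : α → ℕ) (p : ℕ) (l : List α) : ∀ k : List α → List (α × ℤ × Bool) → Bool,
    spz d p l k = k (l.filter fun a => d a % p ≠ 0)
      ((l.filter fun a => d a % p = 0).map fun a => (a, 0, false)) := by
  induction l with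
  | nil => exact fun _ => rfl
  | cons a l ih =>
    intro k
    change (Bool.rec (spz d p l fun r z => k (a :: r) z)
      (spz d p l fun r z => k r ((a, 0, false) :: z)) (Nat.beq (d a % p) 0) : Bool) = _
    by_cases h : d a % p = 0
    · rw [Nat.beq_eq.mpr h, ih, ih]; simp [h]
    · rw [Bool.eq_false_iff.mpr fun e => h (Nat.beq_eq.mp e), ih]; simp [h]

theorem covA_sound {eqb : α → α → Bool} (he : ∀ a b, eqb a b = true ↔ a = b) {d : α → ℕ}
    {w : α → ℤ} {p k : ℕ} {S : Sh} {SH : List Sh} {s0 : ℤ} {pf : ℕ → Bool}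
    {good : List (α × ℤ × Bool) → Bool} {l : List α}
    (h : covA eqb d w p k S SH s0 pf good l = true) {γ : Type*} (sh : γ → Sh)
    (X Y : γ → Multiset α) (Λ : Finset γ) {X0 Y0 : Multiset α}
    (h1 : ∀ g ∈ Λ, sh g ∈ SH ∧ BlOK d w p (sh g) (X g) (Y g) 0 0) (h2 : BlOK d w p S X0 Y0 s0 1)
    (h3 : ∀ a ∈ X0 + Y0, pf (d a) = true) (h4 : ∑ g ∈ Λ, (sh g).c + 1 ≤ k)
    (h5 : (l : Multiset α).filter (d · % p ≠ 0) = ∑ g ∈ Λ, (X g + Y g) + X0 + Y0) :
    ∃ out : List (α × ℤ × Bool), (out : Multiset _) = ∑ g ∈ Λ, tag d p false (sh g) (X g) (Y g) +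
      tag d p true S X0 Y0 + ((l : Multiset α).filter (d · % p = 0)).map (fun a => (a, 0, false)) ∧
      good out = true := by
  rw [covA, spz_eq] at h
  obtain ⟨L, ne, e1, e2, e3⟩ := spl_sound _ _ _ _ h
  have a1 : ∀ a ∈ X0, (Bool.rec 0 (S.x p (d a)) (pf (d a)) : ℤ) = S.x p (d a) := fun a ha => by
    rw [h3 a (Multiset.mem_add.mpr (Or.inl ha))]
  have a2 : ∀ a ∈ Y0, (Bool.rec 0 (S.y p (d a)) (pf (d a)) : ℤ) = S.y p (d a) := fun a ha => by
    rw [h3 a (Multiset.mem_add.mpr (Or.inr ha))]
  rw [Multiset.filter_coe] at h5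
  obtain ⟨T, e4, e5⟩ := exists_add_of_eq (h5.symm.trans e1) fun b hb =>
    ⟨fun e => h2.x b e (a1 b e ▸ (e2 b hb).1), fun e => h2.y b e (a2 b e ▸ (e2 b hb).2)⟩
  obtain ⟨r, c, f1, f2, f3⟩ := pick_sound he _ _ L false (S.nx - 1) 0 (fun _ => true)
    (fun _ => false) s0 ne _ T X0 Y0 e5 (fun b hb => ⟨(a1 b hb).symm ▸ h2.x b hb, rfl⟩)
    (fun b hb => ⟨(a2 b hb).symm ▸ h2.y b hb, rfl, rfl⟩) h2.eq (by have := h2.cx; omega)
    (by simpa using h2.cy) (by
      rw [Multiset.map_congr rfl fun b hb => by rw [a1 b hb],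
        Multiset.map_congr (s := Y0) rfl fun b hb => by rw [a2 b hb]]
      exact h2.sum) (by simp) e3
  obtain ⟨out, g1, g2⟩ := cov_sound he sh X Y 30 Λ r (k - 1) c h1 (f1.trans e4.symm) (by omega) f3
  refine ⟨out, ?_, g2⟩
  rw [g1, f2, Multiset.map_congr rfl fun b hb => by rw [a1 b hb],
    Multiset.map_congr (s := Y0) rfl fun b hb => by rw [a2 b hb], tag, Multiset.filter_coe,
    Multiset.map_coe, add_assoc _ (_ + _)]

theorem frcSL_eq (l : List Sh) (k : List Sh → Bool) : frcSL l k = k l := by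
  induction l generalizing k with
  | nil => rfl
  | cons S l ih => exact ih fun l' => k (S :: l')

theorem frcC_eq (N p : ℕ) (l : List (ℕ × ℕ)) (k : List Cf → Bool) :
    frcC N p l k = k (l.map (mkCf N p)) := by
  induction l generalizing k with
  | nil => rfl
  | cons a l ih =>
    change (frcSL (mkCf N p a).2.2.2 fun SH => frcC N p l fun l' =>
      k ((a.1, a.2, (mkCf N p a).2.2.1, SH) :: l')) = _
    rw [frcSL_eq, ih]; rfl

theorem qsum_eq (N : ℕ) (d : α → ℕ) (w u v : α → ℤ) (l : List α) (s : ℤ) (k : ℤ → Bool) :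
    qsum N d w u v l s k =
      k (s + (l.map fun a => (N / d a : ℕ) * (w a * (u a * v a))).sum) := by
  induction l generalizing s with
  | nil => simp [qsum]
  | cons a l ih =>
    change (Bool.rec (frcI (s + (N / d a : ℕ) * (w a * (u a * v a))) fun s' =>
      qsum N d w u v l s' k) (qsum N d w u v l s k) (ieq (v a) 0) : Bool) = _
    rw [frcI_eq, ih, ih, List.map_cons, List.sum_cons, add_assoc]
    by_cases h : v a = 0
    · rw [ieq_iff.mpr h, h]; simp
    · rw [ieq_of_ne h]

theorem qok_of {N c k m : ℕ} {d : α → ℕ} {w u v : α → ℤ} {l : List α} {n : ℕ}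
    (h : ((N * c : ℕ) : ℤ) + (l.map fun a => (N / d a : ℕ) * (w a * (u a * v a))).sum = n)
    (h' : m ∣ k * n) : qok N c k m d w u v l = true := by
  rw [qok, qsum_eq]
  change (Int.rec (fun n => Nat.beq (k * n % m) 0) (fun _ => false)
    (((N * c : ℕ) : ℤ) + _) : Bool) = true
  rw [h]
  exact Nat.beq_eq.mpr (Nat.mod_eq_zero_of_dvd h')

end CfsgLib.ChTab
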