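import Mathlib
import Cfsg.Agent.Lib.ChTab.Cov
import Cfsg.Agent.Lib.ChTab.Pair
import Cfsg.Agent.Lib.ChTab.Int

/-!
The blocks of defect one: their shapes, the distribution of a principal `q`-block among the
`p`-blocks and a class multiplication test.
-/

set_option autoImplicit false

namespace CfsgLib.ChTab

open Cfsg CfsgLib.Char CfsgLib.Block CfsgLib.DefectOne CfsgLib.DefectOne.B43 CfsgLib.Tuan
  CfsgLib.PF CfsgLib.BG Subgroup Finset
open scoped ComplexConjugate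

variable {G : Type*} [Group G] [Finite G] {p : ℕ} [hp : Fact p.Prime] {x : G} {ζ : ℂ}

/-- A block `B` of shape `S` with non-exceptional part `X` and exceptional part `Y`. -/
structure BD (hs : Syl p x) (B : Finset (IrrCharacter G)) (S : Sh)
    (X Y : Finset (IrrCharacter G)) : Prop where
  mem : ∀ χ, χ ∈ B ↔ χ ∈ X ∨ χ ∈ Y
  dj : Disjoint X Y
  vx : ∀ χ ∈ X, S.x p (dg χ) = vv p x χ
  vy : ∀ χ ∈ Y, S.y p (dg χ) = vv p x χ
  ne : ∀ χ ∈ B, vv p x χ ≠ 0
  reg : ∀ χ ∈ Y, ∀ ψ ∈ Y, ∀ g, ¬ p ∣ orderOf g → (χ : G → ℂ) g = (ψ : G → ℂ) g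
  cx : X.card ≤ S.nx
  cy : Y.card = S.t
  sq : ∑ χ ∈ B, vv p x χ * vv p x χ = (p - 1) * ee x * (p * S.c)
  rel : ∀ c : IrrCharacter G → ℂ, (∀ (i : (ZMod p)ˣ), ∀ y ∈ hs.KK,
    ∑ χ, c χ * (χ : G → ℂ) (x ^ (i : ZMod p).val * y) = 0) → ∑ χ ∈ B, c χ * vv p x χ = 0

open Classical in
/-- The irreducible characters in a set of functions. -/
noncomputable def irrF (S : Finset (G → ℂ)) : Finset (IrrCharacter G) :=
  univ.filter fun χ => (χ : G → ℂ) ∈ S

theorem mem_irrF {S : Finset (G → ℂ)} {χ : IrrCharacter G} : χ ∈ irrF S ↔ (χ : G → ℂ) ∈ S := by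
  simp [irrF]

theorem card_irrF {S : Finset (G → ℂ)} (hS : ∀ χ ∈ S, IsIrr ⊤ χ) : (irrF S).card = S.card := by
  classical
  rw [← card_irrSet hS, Nat.card_eq_fintype_card, Fintype.card_subtype]
  exact congrArg card (by ext χ; simp [mem_irrF, mem_irrSet])

theorem not_dvd_of_vv (hs : Syl p x) {χ : IrrCharacter G} (h : vv p x χ ≠ 0) : ¬ p ∣ dg χ :=
  fun e => h (vv_dz hs e)

theorem sv_vv (hs : Syl p x) (hp2 : p ≠ 2) {χ : IrrCharacter G} {im a : ℕ} {δ : ℤ}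
    (hδ : δ = 1 ∨ δ = -1) (h : vv p x χ = δ * a) (h0 : vv p x χ ≠ 0) (hd : dg χ ∣ im) :
    sv p im a (dg χ) = vv p x χ :=
  sv_eq (by rcases hδ with rfl | rfl <;> simp [h]) (dvd_add_vv hs χ) (add_vv_nonneg hs χ) hd
    fun e => (hp.out.dvd_mul.mp e).elim
      (fun e => hp2 ((Nat.prime_dvd_prime_iff_eq hp.out Nat.prime_two).mp e)) (not_dvd_of_vv hs h0)

theorem exists_bd (hs : Syl p x) (hp2 : p ≠ 2) {ω : AddChar (ZMod p) ℂ} (hω : ω.IsPrimitive)
    {θ : G → ℂ} (hθ : Tr x θ) {f : ℕ} (hf : θ 1 = f) : ∃ X Y, BD hs (irrF (hs.Bl ω ⊤ θ))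
      (mkSh (Nat.card G / (p * kk p x)) p (ee x) (cfclass (NN x) θ).card f) X Y := by
  classical
  obtain ⟨D⟩ := hs.nonempty_genData hω le_top hθ
  have hE : Nat.card (hs.EE θ) * (cfclass (NN x) θ).card = ee x := hs.card_EE_mul hθ
  have hc := sum_cfclass_one (NN x) θ
  have hX1 : (irrF D.X).card = Nat.card (hs.EE θ) := (card_irrF D.X_irr).trans D.card_X
  have hY1 : (irrF (univ.image D.Y)).card = (p - 1) / Nat.card (hs.EE θ) :=
    (card_irrF (by simpa using D.Y_irr)).trans D.card_Y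
  have hY2 := Nat.div_mul_cancel (hs.card_EE_dvd θ)
  have hf0 : f ≠ 0 := fun e => hs.not_dvd_tr hθ hf (e ▸ dvd_zero p)
  have h2 := hp.out.two_le
  have he := ee_pos x
  rw [hf] at hc
  generalize (cfclass (NN x) θ).card = o at hE hc ⊢
  have ho : 0 < o := Nat.pos_of_ne_zero fun e => by rw [e] at hE; omega
  have hEo : ee x / o = Nat.card (hs.EE θ) := by rw [← hE, Nat.mul_div_cancel _ ho]
  have hI : (centralizer ({x} : Set G)).index = Nat.card G / (p * kk p x) := by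
    rw [← card_CC_eq hs, ← (CC x).card_mul_index, Nat.mul_div_cancel_left _ Nat.card_pos]
  have vX : ∀ χ ∈ irrF D.X, vv p x χ = D.δ χ * ((p - 1) * (o * f) : ℕ) := fun χ h => by
    have := D.sum_X hω le_top hθ (mem_irrF.mp h) hs.KK.one_mem
    simp only [mul_one, hc] at this
    apply Int.cast_injective (α := ℂ)
    rw [vv_cast hs, vC, this]; push_cast [Nat.cast_sub hp.out.one_le]; ring
  have vY : ∀ χ ∈ irrF (univ.image D.Y), vv p x χ = -D.ε * (ee x * f : ℕ) := fun χ h => by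
    obtain ⟨a, -, ha⟩ := mem_image.mp (mem_irrF.mp h)
    have := D.sum_Y hω le_top hθ a hs.KK.one_mem
    simp only [mul_one, hc, ha] at this
    apply Int.cast_injective (α := ℂ)
    rw [vv_cast hs, vC, this, ← hE]; push_cast; ring
  have hε : -D.ε = 1 ∨ -D.ε = -1 := by have := D.ε_sign; omega
  have nX : ∀ χ ∈ irrF D.X, vv p x χ ≠ 0 := fun χ h => by
    rw [vX χ h]
    refine mul_ne_zero (by have := D.δ_sign _ (mem_irrF.mp h); omega) (Nat.cast_ne_zero.mpr ?_)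
    exact mul_ne_zero (by omega) (mul_ne_zero ho.ne' hf0)
  have nY : ∀ χ ∈ irrF (univ.image D.Y), vv p x χ ≠ 0 := fun χ h => by
    rw [vY χ h]
    exact mul_ne_zero (by omega) (Nat.cast_ne_zero.mpr (mul_ne_zero he.ne' hf0))
  have sX : ∀ χ ∈ irrF D.X, sv p (Nat.card G / (p * kk p x) * (o * f)) ((p - 1) * (o * f)) (dg χ) =
      vv p x χ := fun χ h => by
    refine sv_vv hs hp2 (D.δ_sign _ (mem_irrF.mp h)) (vX χ h) (nX χ h) ?_
    have h1 := D.X_val hω le_top hθ (mem_irrF.mp h) hs.self_mem_AA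
    rw [sum_congr rfl fun ψ hψ => (hθ.of_mem hψ).2, hc] at h1
    have h3 := dvd_of_val (χ := χ) (g := x) (n := D.δ χ * (o * f : ℕ)) (by rw [h1]; push_cast; rfl)
    rw [hI, mul_left_comm] at h3
    rcases D.δ_sign _ (mem_irrF.mp h) with e | e <;> rw [e] at h3
    · exact_mod_cast one_mul (_ : ℤ) ▸ h3
    · exact_mod_cast dvd_neg.mp (neg_one_mul (_ : ℤ) ▸ h3)
  have hm : ∀ χ, χ ∈ irrF (hs.Bl ω ⊤ θ) ↔ χ ∈ irrF D.X ∨ χ ∈ irrF (univ.image D.Y) := fun χ => by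
    simp [mem_irrF, D.mem_Bl]
  have hB : irrF (hs.Bl ω ⊤ θ) = irrF D.X ∪ irrF (univ.image D.Y) := by ext χ; simp [hm]
  have hdj : Disjoint (irrF D.X) (irrF (univ.image D.Y)) := disjoint_left.mpr fun χ a b =>
    disjoint_left.mp D.disjoint (mem_irrF.mp a) (mem_irrF.mp b)
  have hne : ∀ χ ∈ irrF (hs.Bl ω ⊤ θ), vv p x χ ≠ 0 := fun χ h =>
    ((hm χ).mp h).elim (nX χ) (nY χ)
  have hsq : ∑ χ ∈ irrF (hs.Bl ω ⊤ θ), vv p x χ * vv p x χ =
      (p - 1) * ee x * (p * (o * f * f : ℕ)) := by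
    rw [hB, sum_union hdj, sum_congr (g := fun _ => (((p - 1) * (o * f) : ℕ) : ℤ) ^ 2) rfl
      fun χ h => by rw [vX χ h]; rcases D.δ_sign _ (mem_irrF.mp h) with e | e <;> rw [e] <;> ring,
      sum_congr (s₁ := irrF (univ.image D.Y)) (g := fun _ => ((ee x * f : ℕ) : ℤ) ^ 2) rfl
      fun χ h => by rw [vY χ h]; rcases hε with e | e <;> rw [e] <;> ring,
      sum_const, sum_const, hX1, hY1, ← hE]
    have := congrArg (Nat.cast : ℕ → ℤ) hY2
    push_cast [Nat.cast_sub hp.out.one_le, nsmul_eq_mul, -Nat.cast_div] at this ⊢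
    linear_combination (Nat.card (hs.EE θ) * o ^ 2 * f ^ 2 : ℤ) * this
  have hrel : ∀ c : IrrCharacter G → ℂ, (∀ (i : (ZMod p)ˣ), ∀ y ∈ hs.KK,
      ∑ χ, c χ * (χ : G → ℂ) (x ^ (i : ZMod p).val * y) = 0) →
      ∑ χ ∈ irrF (hs.Bl ω ⊤ θ), c χ * vv p x χ = 0 := fun c h => by
    have h1 : ∀ χ ∈ irrF (hs.Bl ω ⊤ θ), (vv p x χ : ℂ) =
        o * f * ∑ a : (ZMod p)ˣ, hs.dc ω θ a χ := fun χ h => by
      rcases (hm χ).mp h with h | h
      · rw [vX χ h, D.sum_dc_X (mem_irrF.mp h)]; push_cast [Nat.cast_sub hp.out.one_le]; ring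
      · obtain ⟨a, -, ha⟩ := mem_image.mp (mem_irrF.mp h)
        rw [vY χ h, ← ha, D.sum_dc_Y, ← hE]; push_cast; ring
    rw [sum_congr rfl fun χ h => by rw [h1 χ h], sum_subset (subset_univ _) fun χ _ h => by
      rw [sum_eq_zero fun a _ => hs.dc_eq_zero (isIrr_top.2 χ.2) (fun e => h (mem_irrF.mpr e)) a, mul_zero,
        mul_zero]]
    have h3 : ∑ y ∈ els (hs.KK : Set G), (∑ i : (ZMod p)ˣ, ∑ χ : IrrCharacter G,
        c χ * (χ : G → ℂ) (x ^ (i : ZMod p).val * y)) * conj (θ y) = 0 :=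
      sum_eq_zero fun y hy => by rw [sum_eq_zero fun i _ => h i y (mem_els.mp hy), zero_mul]
    simp only [sum_comm (s := (univ : Finset (ZMod p)ˣ)) (t := (univ : Finset (IrrCharacter G))),
      ← mul_sum, sum_mul, mul_assoc] at h3
    rw [sum_comm] at h3
    simp only [← mul_sum] at h3
    simp only [hs.sum_dc hω hθ, mul_left_comm (c _), ← mul_sum]
    simp only [sum_mul, h3, mul_zero]
  by_cases ht : ee x / o + 1 = p
  · have e1 : Nat.card (hs.EE θ) = p - 1 := by omega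
    have e2 : o = 1 := by
      have := Nat.le_of_dvd (by omega) (ee_dvd hs)
      rw [← hE, e1] at this
      nlinarith [show 0 < p - 1 by omega]
    subst e2
    have e3 : ee x = p - 1 := by omega
    refine ⟨irrF (hs.Bl ω ⊤ θ), ∅, by simp, disjoint_empty_right _, fun χ h => ?_, by simp, hne,
      by simp, ?_, by rw [mkSh, if_pos ht, if_pos ht, card_empty], hsq, hrel⟩
    · refine ((hm χ).mp h).elim (sX χ) fun h => sv_vv hs hp2 hε (by
        rw [vY χ h, e3, mkSh, one_mul]) (nY χ h) ?_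
      have h1 := vv_eq_cv hs e3 χ
      have h3 := dg_dvd_cv (ratl_of_ee hs e3) χ
      rw [vY χ h, e3, Nat.cast_mul, Nat.cast_pred hp.out.pos, mul_left_comm,
        mul_right_inj' (by omega)] at h1
      rw [← h1, cC, card_CC_eq hs, mul_left_comm] at h3
      simp only [mkSh, one_mul]
      rcases hε with e | e <;> rw [e] at h3
      · exact_mod_cast one_mul (_ : ℤ) ▸ h3
      · exact_mod_cast dvd_neg.mp (neg_one_mul (_ : ℤ) ▸ h3)
    · rw [hB, card_union_of_disjoint hdj, hX1, hY1, e1, Nat.div_self (by omega), mkSh, if_pos ht]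
      change _ ≤ p
      omega
  · have hE0 : 0 < (p - 1) / Nat.card (hs.EE θ) := Nat.pos_of_ne_zero fun e => by
      rw [e] at hY2; omega
    refine ⟨_, _, hm, hdj, sX, fun χ h => ?_, hne, fun χ a ψ b g hg => ?_,
      by rw [hX1, mkSh, if_neg ht, hEo], by rw [hY1, mkSh, if_neg ht, if_neg ht, hEo], hsq, hrel⟩
    · rw [Sh.y, mkSh, if_neg ht, if_neg ht, hEo, Bool.eq_false_iff.mpr fun e =>
        hE0.ne' (Nat.beq_eq.mp e)]
      refine sv_vv hs hp2 hε (vY χ h) (nY χ h) ?_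
      have h3 := dg_dvd_vv hs χ
      rw [vY χ h, mul_left_comm] at h3
      rcases hε with e | e <;> rw [e] at h3
      · exact_mod_cast one_mul (_ : ℤ) ▸ h3
      · exact_mod_cast dvd_neg.mp (neg_one_mul (_ : ℤ) ▸ h3)
    · obtain ⟨a, -, ha⟩ := mem_image.mp (mem_irrF.mp a)
      obtain ⟨b, -, hb⟩ := mem_image.mp (mem_irrF.mp b)
      rw [← ha, ← hb, D.Y_reg a b hg]

open Classical in
theorem exists_sys (D : PrinData p x ζ) (hs : Syl p x) (hζ : IsPrimitiveRoot ζ p) (hp2 : p ≠ 2) :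
    ∃ (Λ : Finset (Finset (IrrCharacter G))) (sh : Finset (IrrCharacter G) → Sh)
      (X Y : Finset (IrrCharacter G) → Finset (IrrCharacter G)) (X0 Y0 : Finset (IrrCharacter G)),
      (∀ B ∈ Λ, sh B ∈ shp (Nat.card G / (p * kk p x)) p (ee x) (kk p x) ∧
        BD hs B (sh B) (X B) (Y B) ∧ Disjoint B (D.X ∪ Ys D)) ∧
      BD hs (D.X ∪ Ys D) (mkSh (Nat.card G / (p * kk p x)) p (ee x) 1 1) X0 Y0 ∧
      (Λ : Set (Finset (IrrCharacter G))).PairwiseDisjoint id ∧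
      (∀ χ, ¬ p ∣ dg χ → χ ∉ D.X ∪ Ys D → ∃ B ∈ Λ, χ ∈ B) ∧
      ∑ B ∈ Λ, (sh B).c + 1 ≤ kk p x := by
  obtain ⟨ω, hω⟩ : ∃ ω : AddChar (ZMod p) ℂ, ω.IsPrimitive :=
    ⟨_, AddChar.zmodChar_primitive_of_primitive_root p hζ⟩
  obtain ⟨M, hM⟩ := exists_isPModular' hp.out
  have h0 : irrF (hs.Bl ω ⊤ (cf1 (CC x))) = D.X ∪ Ys D := by
    ext χ
    have := Set.ext_iff.mp ((hs.principalBlock_eq_Bl hM hω).symm.trans
      (D.principalBlock_eq hs.ord hs.nsq hζ hM)) χ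
    simpa [mem_irrF, mem_irrSet, mem_Ys] using this
  obtain ⟨X0, Y0, h1⟩ := exists_bd hs hp2 hω (tr_cf1 x) (f := 1) (by simp [cf1_one])
  rw [h0, cfclass_of_invariant (inertia_cf1 (NN_le_normalizer_CC x)).ge, card_singleton] at h1
  have h2 : ∀ B : Finset (IrrCharacter G), ∃ (o f : ℕ) (X Y : Finset (IrrCharacter G)),
      (∃ θ, Tr x θ ∧ B = irrF (hs.Bl ω ⊤ θ)) → o ∣ ee x ∧ f ∣ kk p x ∧
        BD hs B (mkSh (Nat.card G / (p * kk p x)) p (ee x) o f) X Y := fun B => by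
    by_cases h : ∃ θ, Tr x θ ∧ B = irrF (hs.Bl ω ⊤ θ)
    · obtain ⟨θ, hθ, rfl⟩ := h
      obtain ⟨f, hf⟩ := hθ.1.isChar.one_nat
      obtain ⟨X, Y, h⟩ := exists_bd hs hp2 hω hθ hf
      exact ⟨_, f, X, Y, fun _ => ⟨Dvd.intro_left _ (hs.card_EE_mul hθ),
        ((Nat.Prime.coprime_iff_not_dvd hp.out).mpr (hs.not_dvd_tr hθ hf)).symm.dvd_of_dvd_mul_left
          (card_CC_eq hs ▸ hθ.1.one_dvd_card hf), h⟩⟩
    · exact ⟨0, 0, ∅, ∅, fun e => absurd e h⟩
  choose o f X Y h2 using h2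
  let L : Finset (Finset (IrrCharacter G)) :=
    univ.filter fun B => ∃ θ, Tr x θ ∧ B = irrF (hs.Bl ω ⊤ θ)
  have hL : (L : Set (Finset (IrrCharacter G))).PairwiseDisjoint id := fun B a B' b hne => by
    obtain ⟨θ, a', rfl⟩ := (mem_filter.mp a).2
    obtain ⟨θ', b', rfl⟩ := (mem_filter.mp b).2
    exact disjoint_left.mpr fun χ c d => hne (congrArg irrF (hs.Bl_of_mem le_top
      (hs.mem_cfclass_of_mem_Bl hω le_top a' b' (mem_irrF.mp c) (mem_irrF.mp d))).symm)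
  have hm : D.X ∪ Ys D ∈ L := mem_filter.mpr ⟨mem_univ _, _, tr_cf1 x, h0.symm⟩
  have h3 : ∑ B ∈ L.erase (D.X ∪ Ys D),
      (mkSh (Nat.card G / (p * kk p x)) p (ee x) (o B) (f B)).c + 1 ≤ kk p x := by
    have a1 := sum_le_sum_of_subset_of_nonneg (subset_univ (L.biUnion id))
      (f := fun χ => vv p x χ * vv p x χ) fun _ _ _ => mul_self_nonneg _
    rw [sum_biUnion hL, sum_vv_sq hs, ← sum_erase_add _ _ hm] at a1
    simp only [id] at a1
    rw [sum_congr rfl fun B (hB : B ∈ L.erase _) =>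
      (h2 B (mem_filter.mp (mem_of_mem_erase hB)).2).2.2.sq, h1.sq, ← mul_sum, ← mul_sum,
      ← mul_add, ← mul_add] at a1
    have a2 := hp.out.two_le
    have a3 := ee_pos x
    exact_mod_cast le_of_mul_le_mul_left (le_of_mul_le_mul_left a1
      (mul_pos (by omega) (by omega))) (by omega)
  refine ⟨L.erase (D.X ∪ Ys D), _, X, Y, X0, Y0, fun B hB => ?_, h1,
    hL.subset (coe_subset.mpr (erase_subset _ _)), fun χ a b => ?_, h3⟩
  · obtain ⟨a, b, c⟩ := h2 B (mem_filter.mp (mem_of_mem_erase hB)).2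
    have a1 := (single_le_sum (f := fun B => (mkSh (Nat.card G / (p * kk p x)) p (ee x) (o B)
      (f B)).c) (fun _ _ => Nat.zero_le _) hB).trans (Nat.le_of_succ_le h3)
    refine ⟨List.mem_flatMap.mpr ⟨_, List.mem_reverse.mpr (mem_divs (Nat.pos_of_dvd_of_pos a
      (ee_pos x)) (Nat.le_of_dvd (ee_pos x) a) a), List.mem_map_of_mem (List.mem_filter.mpr
        ⟨List.mem_reverse.mpr (mem_divs (Nat.pos_of_dvd_of_pos b (kk_pos hs))
          (Nat.le_of_dvd (kk_pos hs) b) b), Nat.ble_eq.mpr a1⟩)⟩, c,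
      hL (mem_of_mem_erase hB) hm (ne_of_mem_erase hB)⟩
  · by_contra! h
    refine a (hs.dvd_of_not_mem_Bl hω le_top (isIrr_top.2 χ.2) (fun θ hθ e => ?_) (dg_cast χ).symm)
    have e' := mem_irrF.mpr e
    exact h _ (mem_erase.mpr ⟨fun e'' => b (e'' ▸ e'), mem_filter.mpr ⟨mem_univ _, θ, hθ, rfl⟩⟩) e'

open Classical in
/-- Membership in the principal block. -/
noncomputable def inB (D : PrinData p x ζ) (χ : IrrCharacter G) : Bool := decide (χ ∈ D.X ∪ Ys D)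

open Classical in
theorem inB_iff {D : PrinData p x ζ} {χ : IrrCharacter G} : inB D χ = true ↔ χ ∈ D.X ∪ Ys D :=
  decide_eq_true_iff

theorem vv_ne_zero (D : PrinData p x ζ) (hs : Syl p x) (hζ : IsPrimitiveRoot ζ p)
    {χ : IrrCharacter G} (h : inB D χ = true) : vv p x χ ≠ 0 := fun e =>
  not_dvd_of_b0 D hs hζ (by classical exact mem_union.mp (inB_iff.mp h))
    (by simpa [e, Int.natCast_dvd_natCast] using dvd_add_vv hs χ)

/-- The sum over the `p`-singular elements of `C(x)`. -/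
theorem sum_sing (D : PrinData p x ζ) (hs : Syl p x) (χ : IrrCharacter G) :
    ∑ a : (ZMod p)ˣ, ∑ y ∈ els (hs.KK : Set G), (χ : G → ℂ) (x ^ (a : ZMod p).val * y) =
      if inB D χ = true then (kk p x : ℂ) * vv p x χ else 0 := by
  classical
  split_ifs with h
  · rw [vv_cast hs, vC, mul_sum]
    refine sum_congr rfl fun a _ => ?_
    rw [sum_congr rfl fun y hy => b0_val D hs (mem_union.mp (inB_iff.mp h))
      (mem_CC.mp (mem_els.mp hy).1) (mem_els.mp hy).2 (ZMod.val_pos.mpr a.ne_zero) (ZMod.val_lt _),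
      sum_const, nsmul_eq_mul, card_els, ← Nat.card_coe_set_eq, SetLike.coe_sort_coe, card_KK]
  · rw [inB_iff, mem_union, not_or, mem_Ys, not_exists] at h
    refine sum_eq_zero fun a _ => ?_
    rw [← D.other χ h.1 h.2 a, sum_els_eq_finsum, show (hs.KK : Set G) =
      {y | Commute x y ∧ ¬ p ∣ orderOf y} from Set.ext fun y => by simp [hs.mem_KK, mem_CC]]

variable {q : ℕ} [hq : Fact q.Prime] {w : G} {ξ : ℂ}

/-- Characters that agree on the `p`-regular elements. -/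
theorem eq_of_reg (E : PrinData q w ξ) (ht : Syl q w) (hξ : IsPrimitiveRoot ξ q)
    (hc : ¬ p ∣ Nat.card (CC w)) {χ ψ : IrrCharacter G}
    (h : ∀ g, ¬ p ∣ orderOf g → (χ : G → ℂ) g = (ψ : G → ℂ) g) :
    vv q w χ = vv q w ψ ∧ inB E χ = inB E ψ := by
  have h1 : ∀ g ∈ CC w, (χ : G → ℂ) g = (ψ : G → ℂ) g := fun g hg =>
    h g fun e => hc (e.trans (Subgroup.orderOf_dvd_natCard _ hg))
  have h2 : vv q w χ = vv q w ψ := by
    rw [vv, vv, vC, vC, sum_congr rfl fun a _ => h1 _ (pow_mem (self_mem_CC w) _)]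
  have h3 := sum_sing E ht χ
  rw [sum_congr rfl fun a _ => sum_congr rfl fun y hy =>
    h1 _ (mul_mem (pow_mem (self_mem_CC w) _) (mem_els.mp hy).1), sum_sing E ht ψ] at h3
  have h4 : (kk q w : ℂ) ≠ 0 := Nat.cast_ne_zero.mpr (kk_pos ht).ne'
  refine ⟨h2, Bool.eq_iff_iff.mpr ⟨fun a => by_contra fun b => ?_, fun a => by_contra fun b => ?_⟩⟩
  · rw [if_pos a, if_neg b] at h3
    exact mul_ne_zero h4 (Int.cast_ne_zero.mpr (vv_ne_zero E ht hξ a)) h3.symm
  · rw [if_pos a, if_neg b] at h3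
    exact mul_ne_zero h4 (Int.cast_ne_zero.mpr (vv_ne_zero E ht hξ a)) h3

theorem dg_eq_of_reg {χ ψ : IrrCharacter G}
    (h : ∀ g, ¬ p ∣ orderOf g → (χ : G → ℂ) g = (ψ : G → ℂ) g) : dg χ = dg ψ := by
  have := h 1 not_dvd_orderOf_one
  rw [← dg_cast, ← dg_cast] at this
  exact_mod_cast this

theorem sv_cases (p im a d : ℕ) : sv p im a d = a ∨ sv p im a d = -a ∨ sv p im a d = 0 := by
  rw [sv, Int.negOfNat_eq]
  cases Nat.beq (Nat.mod (Nat.add d a) p) 0 <;> cases Nat.beq (Nat.mod (Nat.sub d a) p) 0 <;>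
    cases Nat.ble a d <;> cases Nat.beq (Nat.mod im d) 0 <;> simp

open Classical in
theorem BD.rel_b0 {hs : Syl p x} {B X Y : Finset (IrrCharacter G)} {S : Sh} (h : BD hs B S X Y)
    (E : PrinData q w ξ) (ht : Syl q w) (hξ : IsPrimitiveRoot ξ q) (hc : ¬ q ∣ Nat.card (CC x)) :
    ∑ χ ∈ B.filter (· ∈ E.X ∪ Ys E), vv p x χ * vv q w χ = 0 := by
  have := h.rel (fun χ => if χ ∈ E.X ∪ Ys E then vv q w χ else 0) fun i y hy => by
    simp only [ite_mul, zero_mul, ← sum_filter, filter_mem_eq_inter, univ_inter]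
    exact sum_b0_reg E ht hξ fun e => hc (e.trans (Subgroup.orderOf_dvd_natCard _
      (mul_mem (pow_mem (self_mem_CC x) _) (hs.KK_le_CC hy))))
  simp only [ite_mul, zero_mul, ← sum_filter, mul_comm (vv q w _ : ℂ)] at this
  exact_mod_cast this

open Classical in
theorem BD.blOK {hs : Syl p x} {B X Y : Finset (IrrCharacter G)} {S : Sh} (h : BD hs B S X Y)
    (E : PrinData q w ξ) (ht : Syl q w) (hξ : IsPrimitiveRoot ξ q) (hc' : ¬ p ∣ Nat.card (CC w))
    {α : Type} {r : IrrCharacter G → α} {d : α → ℕ} {wt : α → ℤ} (hd : ∀ χ, d (r χ) = dg χ)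
    (hw : ∀ χ, wt (r χ) = vv q w χ)
    (hr : ∀ χ ψ : IrrCharacter G, (∀ g, ¬ p ∣ orderOf g → (χ : G → ℂ) g = (ψ : G → ℂ) g) →
      r χ = r ψ) (h1 : irrOne G ∉ Y) {s : ℤ} {dn : ℕ} (h2 : (X ∩ Bk E).card + dn ≤ X.card)
    (h3 : s + ∑ χ ∈ B ∩ Bk E, vv p x χ * vv q w χ = 0) (fl : Bool) :
    BlOK d wt p S ((X ∩ Bk E).val.map r) ((Y ∩ Bk E).val.map r) s dn ∧
      (X ∩ Bk E).val.map r + (Y ∩ Bk E).val.map r = ∑ χ ∈ B ∩ Bk E, {r χ} ∧
      tag d p fl S ((X ∩ Bk E).val.map r) ((Y ∩ Bk E).val.map r) =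
        ∑ χ ∈ B ∩ Bk E, {(r χ, vv p x χ, fl)} := by
  have hB : ∀ {M : Type} [AddCommMonoid M] (F : IrrCharacter G → M), ∑ χ ∈ B ∩ Bk E, F χ =
      ∑ χ ∈ X ∩ Bk E, F χ + ∑ χ ∈ Y ∩ Bk E, F χ := fun F => by
    rw [← sum_union (h.dj.mono inter_subset_left inter_subset_left), ← union_inter_distrib_right]
    exact sum_congr (by ext χ; simp [h.mem]) fun _ _ => rfl
  have hx : ∀ χ ∈ X ∩ Bk E, S.x p (d (r χ)) = vv p x χ := fun χ a => by
    rw [hd, h.vx χ (mem_inter.mp a).1]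
  have hy : ∀ χ ∈ Y ∩ Bk E, S.y p (d (r χ)) = vv p x χ := fun χ a => by
    rw [hd, h.vy χ (mem_inter.mp a).1]
  have hs1 : ∀ {β : Type} (T : Finset (IrrCharacter G)) (F : IrrCharacter G → β),
      T.val.map F = ∑ χ ∈ T, {F χ} := fun T F => by
    rw [← Multiset.sum_map_singleton (T.val.map F), Multiset.map_map]; rfl
  refine ⟨⟨?_, ?_, ?_, by rw [Multiset.card_map]; exact h2.trans h.cx, ?_, ?_⟩, by rw [hB, hs1, hs1], ?_⟩
  · simp only [Multiset.forall_mem_map_iff]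
    exact fun χ a => hx χ a ▸ h.ne χ ((h.mem χ).mpr (Or.inl (mem_inter.mp a).1))
  · simp only [Multiset.forall_mem_map_iff]
    exact fun χ a => hy χ a ▸ h.ne χ ((h.mem χ).mpr (Or.inr (mem_inter.mp a).1))
  · simp only [Multiset.forall_mem_map_iff]
    exact fun χ a ψ b => hr _ _ (h.reg χ (mem_inter.mp a).1 ψ (mem_inter.mp b).1)
  · rw [Multiset.card_map, card_val, card_eq_zero, or_iff_not_imp_left, ← h.cy]
    intro e
    obtain ⟨χ, a⟩ := nonempty_iff_ne_empty.mpr e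
    refine congrArg card (inter_eq_left.mpr fun ψ b =>
      mem_erase.mpr ⟨fun e : ψ = irrOne G => h1 (e ▸ b), inB_iff.mp ?_⟩)
    rw [← (eq_of_reg E ht hξ hc' (h.reg χ (mem_inter.mp a).1 ψ b)).2]
    exact inB_iff.mpr (mem_of_mem_erase (mem_inter.mp a).2)
  · rw [← h3, hB, Multiset.map_map, Multiset.map_map, add_assoc]
    congr 2
    · exact sum_congr rfl fun χ a => by rw [Function.comp_apply, hx χ a, hw]
    · exact sum_congr rfl fun χ a => by rw [Function.comp_apply, hy χ a, hw]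
  · rw [tag, hB, Multiset.map_map, Multiset.map_map, hs1, hs1]
    congr 1
    · exact sum_congr rfl fun χ a => by rw [Function.comp_apply, hx χ a]
    · exact sum_congr rfl fun χ a => by rw [Function.comp_apply, hy χ a]

/-- The distribution of the principal `q`-block among the `p`-blocks. -/
theorem covC_of (D : PrinData p x ζ) (E : PrinData q w ξ) (hs : Syl p x) (ht : Syl q w)
    (hζ : IsPrimitiveRoot ζ p) (hξ : IsPrimitiveRoot ξ q) (hp2 : p ≠ 2) (hpq : p ≠ q)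
    (hc : ¬ q ∣ kk p x) {α : Type} {r : IrrCharacter G → α} {d : α → ℕ} {wt : α → ℤ}
    (hd : ∀ χ, d (r χ) = dg χ) (hw : ∀ χ, wt (r χ) = vv q w χ)
    (hr : ∀ χ ψ : IrrCharacter G, (∀ g, ¬ p ∣ orderOf g → (χ : G → ℂ) g = (ψ : G → ℂ) g) →
      r χ = r ψ) {eqb : α → α → Bool} (he : ∀ a b, eqb a b = true ↔ a = b) {l : List α}
    (hl : (l : Multiset α) = (Bk E).val.map r) {pf : ℕ → Bool}
    (hpf : ∀ χ ∈ Bk D, χ ∈ Bk E → pf (dg χ) = true) {good : List (α × ℤ × Bool) → Bool} {N : ℕ}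
    (hN : Nat.card G = N) (h : covC eqb d wt p q (mkCf N p (ee x, kk p x)) pf good l = true) :
    ∃ out : List (α × ℤ × Bool), (out : Multiset (α × ℤ × Bool)) =
      (Bk E).val.map (fun χ => (r χ, vv p x χ, inB D χ)) ∧ good out = true := by
  classical
  subst hN
  have c1 : ¬ q ∣ Nat.card (CC x) := by
    rw [card_CC_eq hs, hq.out.dvd_mul, Nat.prime_dvd_prime_iff_eq hq.out hp.out]
    exact fun e => e.elim (fun e => hpq e.symm) hc
  have c2 : ¬ p ∣ Nat.card (CC w) := by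
    rw [card_CC_eq ht, hp.out.dvd_mul, Nat.prime_dvd_prime_iff_eq hp.out hq.out]
    exact fun e => e.elim hpq fun e => hc (dvd_kk_symm ht hs e)
  obtain ⟨Λ, sh, X, Y, X0, Y0, h1, h2, h3, h4, h5⟩ := exists_sys D hs hζ hp2
  have o1 : irrOne G ∈ D.X ∪ Ys D := mem_union_left _ D.one_mem
  have o2 : irrOne G ∈ E.X ∪ Ys E := mem_union_left _ E.one_mem
  have p2 := hp.out.two_le
  have o3 : irrOne G ∉ Y0 := fun e => by
    have a1 := h2.vy _ e
    have a2 := h2.cy ▸ card_pos.mpr ⟨_, e⟩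
    have a3 := ee_pos x
    rw [vv_one hs, Sh.y, Bool.eq_false_iff.mpr fun e => a2.ne' (Nat.beq_eq.mp e)] at a1
    simp only [mkSh, Nat.div_one, mul_one] at a1 a2
    have a4 := sv_cases p (Nat.card G / (p * kk p x) * ee x) (ee x) (dg (irrOne G))
    split_ifs at a2 <;> omega
  have k1 : ∀ B ∈ Λ, _ := fun B hB => (h1 B hB).2.1.blOK E ht hξ c2 hd hw hr
    (fun e => disjoint_left.mp (h1 B hB).2.2 (((h1 B hB).2.1.mem _).mpr (Or.inr e)) o1) (s := 0)
    (dn := 0) (card_le_card inter_subset_left) (by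
      rw [zero_add, ← (h1 B hB).2.1.rel_b0 E ht hξ c1]
      refine sum_congr ?_ fun _ _ => rfl
      ext χ
      simp only [mem_inter, Bk, mem_erase, mem_filter, and_congr_right_iff, and_iff_right_iff_imp]
      exact fun a _ e => disjoint_left.mp (h1 B hB).2.2 (e ▸ a) o1) false
  have k2 := h2.blOK E ht hξ c2 hd hw hr o3 (s := ((p - 1) * (q - 1) : ℕ)) (dn := 1)
    (card_lt_card ⟨inter_subset_left, fun e => notMem_erase _ _
      (mem_inter.mp (e (((h2.mem _).mp o1).resolve_right o3))).2⟩) (by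
      rw [← h2.rel_b0 E ht hξ c1, ← add_sum_erase _ _ (mem_filter.mpr ⟨o1, o2⟩), vv_one hs,
        vv_one ht, Nat.cast_mul, Nat.cast_pred hp.out.pos, Nat.cast_pred hq.out.pos]
      refine congrArg _ (sum_congr ?_ fun _ _ => rfl)
      ext χ
      simp only [mem_inter, Bk, mem_erase, mem_filter]
      tauto) true
  have k3 : ∀ {β : Type} (F : IrrCharacter G → Multiset β), ∑ B ∈ Λ, ∑ χ ∈ B ∩ Bk E, F χ +
      ∑ χ ∈ (D.X ∪ Ys D) ∩ Bk E, F χ = ∑ χ ∈ (Bk E).filter (dg · % p ≠ 0), F χ := fun F => by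
    rw [← sum_biUnion (h3.mono (g := fun B => B ∩ Bk E) fun B => inter_subset_left), ← sum_union]
    · refine sum_congr ?_ fun _ _ => rfl
      ext χ
      simp only [mem_union (s := Λ.biUnion _), mem_biUnion, mem_inter, mem_filter, ne_eq,
        ← Nat.dvd_iff_mod_eq_zero]
      refine ⟨?_, fun ⟨a, b⟩ => or_iff_not_imp_right.mpr fun c => ?_⟩
      · rintro (⟨B, a, b, c⟩ | ⟨b, c⟩)
        exacts [⟨c, not_dvd_of_vv hs ((h1 B a).2.1.ne χ b)⟩, ⟨c, not_dvd_of_vv hs (h2.ne χ b)⟩]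
      · obtain ⟨B, c, d⟩ := h4 χ b fun e => c ⟨e, a⟩
        exact ⟨B, c, d, a⟩
    · exact (disjoint_biUnion_left _ _ _).mpr fun B hB =>
        (h1 B hB).2.2.mono inter_subset_left inter_subset_left
  have hs1 : ∀ {β : Type} (T : Finset (IrrCharacter G)) (F : IrrCharacter G → β),
      T.val.map F = ∑ χ ∈ T, {F χ} := fun T F => by
    rw [← Multiset.sum_map_singleton (T.val.map F), Multiset.map_map]; rfl
  obtain ⟨out, a1, a2⟩ := covA_sound he h sh _ _ Λ (fun B hB => ⟨(h1 B hB).1, (k1 B hB).1⟩) k2.1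
    (fun a ha => by
      rw [k2.2.1, ← hs1] at ha
      obtain ⟨χ, b, rfl⟩ := Multiset.mem_map.mp ha
      obtain ⟨b, c⟩ := mem_inter.mp b
      rw [hd, hpf χ (mem_erase.mpr ⟨ne_of_mem_erase c, b⟩) c]) h5 (by
      rw [add_assoc, k2.2.1, sum_congr rfl fun B hB => (k1 B hB).2.1, k3, hl, Multiset.filter_map,
        ← hs1]
      simp only [Function.comp_def, hd, filter_val])
  refine ⟨out, ?_, a2⟩
  rw [a1, mkCf, k2.2.2, sum_congr rfl fun B hB => (k1 B hB).2.2.trans (sum_congr rfl fun χ a => by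
      rw [show false = inB D χ from (Bool.eq_false_iff.mpr fun e => disjoint_left.mp
        (h1 B hB).2.2 (mem_inter.mp a).1 (inB_iff.mp e)).symm]),
    sum_congr (s₁ := _ ∩ Bk E) rfl fun χ a => by
      rw [show true = inB D χ from (inB_iff.mpr (mem_inter.mp a).1).symm], k3, hl,
    Multiset.filter_map, Multiset.map_map, hs1 (Bk E),
    ← sum_filter_not_add_sum_filter (Bk E) (dg · % p = 0), ← hs1, ← hs1]
  simp only [Function.comp_def, hd, filter_val]
  refine congrArg _ (Multiset.map_congr rfl fun χ a => ?_)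
  have b := vv_dz hs (Nat.dvd_of_mod_eq_zero (Multiset.mem_filter.mp a).2)
  rw [b, Bool.eq_false_iff.mpr fun e => vv_ne_zero D hs hζ e b]

theorem ee_dvd_sum (hs : Syl p x) (f : G → ℕ) (hf : ∀ a b, IsConj a b → f a = f b) :
    ee x ∣ ∑ a : (ZMod p)ˣ, f (x ^ (a : ZMod p).val) := by
  obtain ⟨ζ, -, ⟨D⟩⟩ := exists_data hs
  let F : IrrCharacter G → ℕ := fun θ => f (x ^ ((Function.invFun D.Y θ : (ZMod p)ˣ) : ZMod p).val)
  have h1 : ∀ a, F (D.Y a) = f (x ^ (a : ZMod p).val) := fun a =>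
    hf _ _ ((isConj_pow_iff D hs _ _).mpr ((D.Y_eq_iff _ _).mp (Function.invFun_eq ⟨a, rfl⟩)))
  have h2 := sum_Y D F
  simp only [h1, card_U D hs, smul_eq_mul] at h2
  exact ⟨_, h2⟩

omit [Finite G] in
theorem pairN_congr {s s' t t' : G} (h : IsConj s s') (h' : IsConj t t') (g : G) :
    pairN s t g = pairN s' t' g :=
  Nat.card_congr (Equiv.subtypeEquivRight fun _ =>
    ⟨fun e => ⟨h.symm.trans e.1, h'.symm.trans e.2⟩, fun e => ⟨h.trans e.1, h'.trans e.2⟩⟩)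

theorem sum_inv_pow (hs : Syl p x) (χ : IrrCharacter G) :
    ∑ a : (ZMod p)ˣ, (χ : G → ℂ) (x ^ (a : ZMod p).val)⁻¹ = vv p x χ := by
  simp only [char_inv (irr_isCharacter χ), ← map_sum]
  rw [← vC, ← vv_cast hs, map_intCast]

open Classical in
/-- Class multiplication constants summed over the `q`-singular elements of `C(w)`. -/
theorem exists_pair (E : PrinData q w ξ) (ht : Syl q w) {p' : ℕ} [Fact p'.Prime] {y : G}
    (hs : Syl p x) (hy : Syl p' y) : ∃ T : ℕ, (kk q w : ℤ) * ∑ χ ∈ E.X ∪ Ys E,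
      (Nat.card G / dg χ : ℕ) * (vv q w χ * (vv p x χ * vv p' y χ)) =
        (p * kk p x * ee x * (p' * kk p' y * ee y) * T : ℕ) := by
  let F : G → G → ℕ := fun s t => ∑ c : (ZMod q)ˣ, ∑ z ∈ els (ht.KK : Set G),
    pairN s t (w ^ (c : ZMod q).val * z)
  have h1 : ∀ s, ee y ∣ ∑ b : (ZMod p')ˣ, F s (y ^ (b : ZMod p').val) := fun s =>
    ee_dvd_sum hy _ fun a b e => by simp only [F, pairN_congr (IsConj.refl s) e]
  obtain ⟨T, hT⟩ := ee_dvd_sum hs (fun s => (∑ b : (ZMod p')ˣ, F s (y ^ (b : ZMod p').val)) / ee y)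
    fun a b e => by simp only [F, pairN_congr e (IsConj.refl _)]
  have h2 := congrArg (ee y * ·) hT
  simp only [mul_sum, Nat.mul_div_cancel' (h1 _)] at h2
  have h3 : ∀ (a : (ZMod p)ˣ) (b : (ZMod p')ˣ), ((p * kk p x * (p' * kk p' y) *
      F (x ^ (a : ZMod p).val) (y ^ (b : ZMod p').val) : ℕ) : ℂ) = ∑ χ : IrrCharacter G,
        (Nat.card G / dg χ : ℕ) * (if inB E χ = true then (kk q w : ℂ) * vv q w χ else 0) *
          ((χ : G → ℂ) (x ^ (a : ZMod p).val)⁻¹ * (χ : G → ℂ) (y ^ (b : ZMod p').val)⁻¹) := by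
    intro a b
    have c1 : Nat.card (CC (x ^ (a : ZMod p).val)) = p * kk p x := by
      rw [← card_CC_eq hs, ← CC_pow_unit hs a]
    have c2 : Nat.card (CC (y ^ (b : ZMod p').val)) = p' * kk p' y := by
      rw [← card_CC_eq hy, ← CC_pow_unit hy b]
    have c3 : ((p * kk p x : ℕ) : ℂ) ≠ 0 := c1 ▸ Nat.cast_ne_zero.mpr Nat.card_pos.ne'
    have c4 : ((p' * kk p' y : ℕ) : ℂ) ≠ 0 := c2 ▸ Nat.cast_ne_zero.mpr Nat.card_pos.ne'
    simp only [← sum_sing E ht, F, Nat.cast_mul (_ * (_ * _)), Nat.cast_mul (p * _), Nat.cast_sum,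
      pairN_eq_sum, c1, c2, mul_sum, sum_mul, card_div_dg]
    rw [sum_comm (s := (univ : Finset (IrrCharacter G)))]
    refine sum_congr rfl fun c _ => sum_comm.trans (sum_congr rfl fun χ _ =>
      sum_congr rfl fun z _ => ?_)
    field_simp
  refine ⟨T, Int.cast_injective (α := ℂ) ?_⟩
  rw [show p * kk p x * ee x * (p' * kk p' y * ee y) * T = p * kk p x * (p' * kk p' y) *
    (ee y * (ee x * T)) by ring, ← h2]
  rw [Int.cast_natCast, mul_sum univ, Nat.cast_sum, sum_congr (s₁ := univ) rfl fun a _ => by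
    rw [mul_sum, Nat.cast_sum, sum_congr rfl fun b _ => h3 a b, sum_comm], sum_comm]
  simp only [← mul_sum, ← sum_mul, sum_inv_pow hs, sum_inv_pow hy]
  simp only [inB_iff, mul_ite, ite_mul, mul_zero, zero_mul]
  rw [← sum_filter, filter_mem_eq_inter, univ_inter, mul_sum]
  simp only [Int.cast_sum, Int.cast_mul, Int.cast_natCast]
  exact sum_congr rfl fun _ _ => by ring

/-- The class multiplication test. -/
theorem qok_sound (E : PrinData q w ξ) (ht : Syl q w) {p' : ℕ} [hp' : Fact p'.Prime] {y : G}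
    (hs : Syl p x) (hy : Syl p' y) {α : Type} {r : IrrCharacter G → α} {d : α → ℕ}
    {wt u v : α → ℤ} (hd : ∀ χ, d (r χ) = dg χ) (hw : ∀ χ, wt (r χ) = vv q w χ)
    (hu : ∀ χ, u (r χ) = vv p x χ) (hv : ∀ χ, v (r χ) = vv p' y χ) {l : List α}
    (hl : (l : Multiset α) = (Bk E).val.map r) {N c k m : ℕ} (hN : Nat.card G = N)
    (hc : c = (q - 1) * ((p - 1) * (p' - 1))) (hk : k = kk q w)
    (hm : m ∣ p * kk p x * ee x * (p' * kk p' y * ee y)) : qok N c k m d wt u v l = true := by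
  classical
  obtain ⟨T, h⟩ := exists_pair E ht hs hy
  rw [← add_sum_erase _ _ (mem_union_left _ E.one_mem), dg_one, vv_one hs, vv_one ht,
    vv_one hy] at h
  have h1 : ((N * c : ℕ) : ℤ) + (l.map fun a => (N / d a : ℕ) * (wt a * (u a * v a))).sum =
      (Nat.card G / 1 : ℕ) * ((q - 1 : ℤ) * ((p - 1) * (p' - 1))) + ∑ χ ∈ Bk E,
        (Nat.card G / dg χ : ℕ) * (vv q w χ * (vv p x χ * vv p' y χ)) := by
    rw [← Multiset.sum_coe, ← Multiset.map_coe, hl, Multiset.map_map, hc, ← hN, Nat.div_one]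
    simp only [Function.comp_def, hd, hw, hu, hv, Nat.cast_mul, Nat.cast_pred hp.out.pos,
      Nat.cast_pred hq.out.pos, Nat.cast_pred hp'.out.pos]
    rfl
  rw [← Bk, ← h1] at h
  obtain ⟨n, hn⟩ := Int.eq_ofNat_of_zero_le (nonneg_of_mul_nonneg_right (h ▸ Nat.cast_nonneg _)
    (Nat.cast_pos.mpr (kk_pos ht)))
  refine qok_of hn (hm.trans ⟨T, ?_⟩)
  rw [hn, ← hk] at h
  exact_mod_cast h

end CfsgLib.ChTab
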