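import Mathlib
import Cfsg.Agent.Lib.ChTab.Rows

/-!
The light enumeration for an arbitrary list containing the small divisors of the order.
-/

set_option autoImplicit false

namespace CfsgLib.ChTab

open Cfsg CfsgLib.Char CfsgLib.Block CfsgLib.DefectOne CfsgLib.DefectOne.B43 CfsgLib.Tuan
  Subgroup Finset

theorem cands_sorted' {Ds : List ℕ} (h : Ds.Pairwise (· ≥ ·)) (N p k c : ℕ) (ok : ℕ → Bool) :
    (cands' Ds N p k c ok).Pairwise fun a b => b.natAbs ≤ a.natAbs := by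
  have key : ∀ (d : ℕ), ∀ s ∈ (if d % p = c % p then [(d : ℤ)] else []) ++
      (if (d + c) % p = 0 then [-(d : ℤ)] else []), s.natAbs = d := fun d s hs => by
    split_ifs at hs <;> simp at hs <;> omega
  refine List.pairwise_flatMap.mpr ⟨fun d _ => List.pairwise_of_forall_mem_list fun a ha b hb =>
    by rw [key d a ha, key d b hb], (h.filter _).imp fun h a ha b hb => ?_⟩
  rwa [key _ a ha, key _ b hb]

theorem mem_cands' {Ds : List ℕ} {N p k c : ℕ} {ok : ℕ → Bool} {d : ℕ} {δ : ℤ}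
    (hδ : δ = 1 ∨ δ = -1) (h1 : 1 < d) (hD : d ∈ Ds) (hd : d ∣ N / (p * k))
    (hk : k ≠ 1 → 2 * p ≤ d) (hok : ok d = true) (hc : (d : ℤ) ≡ δ * c [ZMOD p]) :
    δ * d ∈ cands' Ds N p k c ok := by
  obtain ⟨a, -, h⟩ := List.mem_flatMap.mp (mem_cands (N := p * k * d) (e := 0) hδ h1 le_rfl
    (dvd_mul_left _ _) (k := 1) (ok := fun _ => true) (by
      rcases p.eq_zero_or_pos with rfl | h
      · simp
      · rw [mul_one, mul_assoc, Nat.mul_div_cancel_left _ h]; exact dvd_mul_left _ _)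
    (fun h => absurd rfl h) rfl hc)
  obtain rfl : a = d := by rcases hδ with rfl | rfl <;> split_ifs at h <;> simp at h <;> omega
  refine List.mem_flatMap.mpr ⟨a, List.mem_filter.mpr ⟨hD, ?_⟩, h⟩
  simp only [Bool.and_eq_true, Nat.blt_eq, Nat.beq_eq, Bool.or_eq_true, Nat.ble_eq, hok, and_true]
  exact ⟨⟨h1, Nat.mod_eq_zero_of_dvd hd⟩, or_iff_not_imp_left.mpr hk⟩

/-- A decreasing list containing the small divisors. -/
def Good (N : ℕ) (Ds : List ℕ) : Prop :=
  Ds.Pairwise (· ≥ ·) ∧ ∀ d, d ∣ N → d * d ≤ N → d ∈ Ds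

theorem good_divs {N S : ℕ} (hN : 0 < N) (hS : N < (S + 1) ^ 2) : Good N (divs N S) :=
  ⟨(divs_sorted N S).1, fun d h1 h2 => mem_divs (Nat.pos_of_dvd_of_pos h1 hN)
    (by by_contra hc; nlinarith [Nat.mul_le_mul (show S + 1 ≤ d by omega) (show S + 1 ≤ d by omega)]) h1⟩

theorem Good.mem {N d : ℕ} {Ds : List ℕ} (h : Good N Ds) (hN : 0 < N) (hd : d ∣ N) :
    d ∈ Ds ++ Ds.map (N / ·) := by
  obtain ⟨c, rfl⟩ := hd
  rcases le_total d c with e | e
  · exact List.mem_append_left _ (h.2 d (dvd_mul_right _ _) (Nat.mul_le_mul_left _ e))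
  · exact List.mem_append_right _ (List.mem_map.mpr ⟨c, h.2 c (dvd_mul_left _ _)
      (Nat.mul_le_mul_right _ e), Nat.mul_div_cancel d (Nat.pos_of_mul_pos_left hN)⟩)

/-- The small divisors of a divisor. -/
def sub (Ds : List ℕ) (n : ℕ) : List ℕ :=
  Ds.filter fun d => Nat.beq (n % d) 0 && Nat.ble (d * d) n

theorem Good.sub {N n : ℕ} {Ds : List ℕ} (h : Good N Ds) (hN : 0 < N) (hn : n ∣ N) :
    Good n (sub Ds n) :=
  ⟨h.1.filter _, fun d h1 h2 => List.mem_filter.mpr ⟨h.2 d (h1.trans hn)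
    (h2.trans (Nat.le_of_dvd hN hn)), by simp [Nat.mod_eq_zero_of_dvd h1, h2]⟩⟩

/-- Evaluation of a list of natural numbers. -/
noncomputable def frcN (l : List ℕ) : (List ℕ → Bool) → Bool :=
  List.rec (fun k => k []) (fun s _ ih k => frc s fun n => ih fun l' => k (n :: l')) l

theorem frcN_eq (l : List ℕ) (k : List ℕ → Bool) : frcN l k = k l := by
  induction l generalizing k with
  | nil => rfl
  | cons s l ih => exact ih _

variable {G : Type*} [Group G] [Finite G] {p : ℕ} [hp : Fact p.Prime] {x : G} {ζ : ℂ}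
  [IsSimpleGroup G]

theorem rcheck_sound' (hna : ∃ a b : G, a * b ≠ b * a) (hs : Syl p x) (hζ : IsPrimitiveRoot ζ p)
    (D : PrinData p x ζ) {N : ℕ} (hN : Nat.card G = N) {Ds : List ℕ} (hD : Good N Ds)
    {ok : ℕ → Bool} (hok : ∀ χ, χ ≠ irrOne G → χ ∈ D.X ∨ χ ∈ Ys D → ok (dg χ) = true)
    {good : Opt → Bool} (h : rcheck Ds N p ok good (ee x) (kk p x) = true) :
    ∃ A, IsOpt D A ∧ good A = true := by
  classical
  subst hN
  have hle : ∀ χ : IrrCharacter G, dg χ ∈ Ds := fun χ =>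
    hD.2 _ (dg_dvd χ) (sq (dg χ) ▸ dg_sq_le χ)
  have hk : ∀ χ, χ ≠ irrOne G → χ ∈ D.X ∨ χ ∈ Ys D → kk p x ≠ 1 → 2 * p ≤ dg χ :=
    fun χ h1 h2 h3 => BZ.two_mul_le hna (D := D) hs (fun e => h3 (by
      rw [kk, e, Nat.div_self hp.out.pos])) (or_assoc.mp (Or.inl h2)) h1
  have hY := Y_mem_Ys D 1
  have h1 := Y_ne_one D 1
  have hd : z0 D ∣ Nat.card G / (p * kk p x) := div_eq_index hs ▸ z0_dvd D hζ hs
  have hz : ∀ (δ : ℤ) (c : ℕ), δ = 1 ∨ δ = -1 → (z0 D : ℤ) ≡ δ * c [ZMOD p] →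
      δ * z0 D ∈ cands' Ds (Nat.card G) p (kk p x) c ok := fun δ c a b => by
    rw [← dg_of_mem_Ys D hY] at b hd ⊢
    exact mem_cands' a (one_lt_dg hna h1) (hle _) hd (hk _ h1 (Or.inr hY))
      (hok _ h1 (Or.inr hY)) b
  have hz' : (z0 D : ℤ) ≡ D.ε * ee x [ZMOD p] := card_U D hs ▸ D.Y_deg 1
  have hX : ∀ s ∈ SX D, s ∈ cands' Ds (Nat.card G) p (kk p x) 1 ok ∧
      s.natAbs ∣ Nat.card G / (p * kk p x) := fun s hs' => by
    obtain ⟨χ, hχ, rfl⟩ := Multiset.mem_map.mp hs'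
    have hX := mem_of_mem_erase hχ
    have h1 := ne_of_mem_erase hχ
    have h2 : dg χ ∣ Nat.card G / (p * kk p x) := div_eq_index hs ▸ deg_X_dvd D hs hX
    exact ⟨mem_cands' (D.δ_sign χ hX) (one_lt_dg hna h1) (hle _) h2
      (hk _ h1 (Or.inl hX)) (hok _ h1 (Or.inl hX)) (by simpa using D.X_deg χ hX),
      natAbs_sd D hX ▸ h2⟩
  have hsq := sum_sq_eq D hs
  have hc := card_SX D hs
  have he := ee_ne_one_of_perfect hs (commutator_eq_top hna)
  have he' := ee_pos x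
  have hze := zz_eq D
  rw [← natAbs_zz] at hsq
  rw [rcheck, frcZ_eq] at h
  change (if _ then _ else _) = true at h
  split_ifs at h with e
  · obtain ⟨l, a, b⟩ := bgo_sound _ _ _ _ _ _ (-zz D ::ₘ SX D) _ h (cands_sorted' hD.1 ..)
      (fun s hs' => (Multiset.mem_cons.mp hs').elim (fun e' => e' ▸ ⟨by
        rw [zz, ← neg_mul]
        refine hz _ 1 (D.ε_sign.symm.imp (by simp +contextual) (by simp +contextual))
          (hz'.trans (Int.modEq_iff_dvd.mpr ⟨-D.ε, by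
            have : (p : ℤ) = ee x + 1 := by omega
            generalize D.ε = t
            rw [this]; push_cast; ring⟩)),
        by rwa [Int.natAbs_neg, natAbs_zz]⟩) (hX s))
      (by rw [Multiset.card_cons]; omega) (by rw [Multiset.sum_cons]; omega) (by
        rw [Multiset.map_cons, Multiset.sum_cons, Int.natAbs_neg, ← hsq,
          show (p - 1) / ee x = 1 by rw [← e, Nat.add_sub_cancel, Nat.div_self he'], one_mul,
          add_assoc 1, add_assoc 1, Nat.add_sub_cancel_left])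
    obtain ⟨l', hl'⟩ := Quotient.exists_rep (SX D)
    refine ⟨_, ⟨rfl, rfl, Eq.trans ?_ (rws_eq D hs hζ hl')⟩, b⟩
    rw [← Multiset.map_coe, a, Multiset.coe_nil, add_zero, Multiset.map_cons, ← hl', rws,
      show (p - 1) / ee x = 1 by rw [← e, Nat.add_sub_cancel, Nat.div_self he'],
      ← Multiset.coe_add, add_comm, Int.natAbs_neg, Int.sign_neg, neg_mul,
      show (p - 1 : ℤ) = ee x by omega]
    rfl
  · have h2 := List.all_eq_true.mp h _ (hz _ _ D.ε_sign hz')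
    rw [Bool.or_eq_true, Nat.blt_eq] at h2
    change _ < 1 + _ * ((zz D).natAbs * (zz D).natAbs) ∨ bgo _ (fun r l => _ || good
      (_, _, rws p (ee x) (zz D) l)) _ _ (zz D).toNat (1 + (-zz D).toNat)
      (_ - (1 + _ * ((zz D).natAbs * (zz D).natAbs))) [] = true at h2
    obtain ⟨l, a, b⟩ := bgo_sound _ _ _ _ _ _ (SX D)
      (∑ χ ∈ univ \ (D.X ∪ Ys D), dg χ * dg χ) (h2.resolve_left (by omega)) (cands_sorted' hD.1 ..) hX
      (by omega) (by omega) (by omega)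
    refine ⟨_, ⟨rfl, rfl, rws_eq D hs hζ (by simpa using a)⟩,
      (Bool.or_eq_true _ _ ▸ b).resolve_left ?_⟩
    simp only [Bool.and_eq_true, beq_iff_eq, bne_iff_ne, not_and, not_not]
    refine fun hk1 => Nat.mod_eq_zero_of_dvd (dvd_sum fun χ hχ => ?_)
    rw [mem_sdiff, mem_union, not_or] at hχ
    have := other_deg D (sc_of_kk hs hk1) hχ.2.1 hχ.2.2
    exact mul_dvd_mul this this

theorem ropts_sound' (hna : ∃ a b : G, a * b ≠ b * a) (hs : Syl p x) (hζ : IsPrimitiveRoot ζ p)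
    (D : PrinData p x ζ) {N : ℕ} (hN : Nat.card G = N) {Ds : List ℕ} (hD : Good N Ds)
    {okk : ℕ → ℕ → Bool} {ok : ℕ → ℕ → ℕ → Bool} {good : Opt → Bool}
    (h : ropts Ds N p okk ok good = true) (hokk : okk (ee x) (kk p x) = true)
    (hok : ∀ χ, χ ≠ irrOne G → χ ∈ D.X ∨ χ ∈ Ys D → ok (ee x) (kk p x) (dg χ) = true) :
    ∃ A, IsOpt D A ∧ good A = true := by
  have hp1 : 0 < p - 1 := by have := hp.out.two_le; omega
  have h1 := List.all_eq_true.mp h (ee x)
    (mem_divs (ee_pos x) (Nat.le_of_dvd hp1 (ee_dvd hs)) (ee_dvd hs))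
  rw [Bool.or_eq_true, Nat.beq_eq] at h1
  have hc : N = p * kk p x * ee x * Nat.card (Sylow p G) := by
    rw [← hN, card_eq_mul hs, card_CC_eq hs]
  have hpos : 0 < p * kk p x * ee x := Nat.mul_pos (Nat.mul_pos hp.out.pos (kk_pos hs)) (ee_pos x)
  have h2 := List.all_eq_true.mp (h1.resolve_left (ee_ne_one_of_perfect hs
    (commutator_eq_top hna))) (kk p x) (hD.mem (hN ▸ Nat.card_pos)
      ⟨p * ee x * Nat.card (Sylow p G), by rw [hc]; ring⟩)
  have h3 : N % (p * kk p x * ee x) = 0 := by rw [hc]; exact Nat.mul_mod_right _ _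
  have h4 : N / (p * kk p x * ee x) % p = 1 := by
    conv_lhs => rw [hc, Nat.mul_div_cancel_left _ hpos]
    rw [card_sylow_modEq_one p G, Nat.mod_eq_of_lt hp.out.one_lt]
  rw [h3, h4, hokk] at h2
  exact rcheck_sound' hna hs hζ D hN hD hok (by simpa using h2)

end CfsgLib.ChTab
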