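import Mathlib
import Cfsg.Agent.Lib.ChTab.Rows2
import Cfsg.Agent.Lib.MathRec.Stab

/-!
Elements of prime order centralizing the subgroups they normalize, and a finer comparison of two
principal blocks.
-/

set_option autoImplicit false

namespace CfsgLib.ChTab

open Cfsg CfsgLib.Char CfsgLib.Block CfsgLib.DefectOne CfsgLib.DefectOne.B43 CfsgLib.Tuan
  CfsgLib.MathRec Subgroup Finset

/-- No prime power `> 1` dividing `m` is congruent to one modulo `q`. -/
def ppOK (m q : ℕ) : Bool :=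
  Nat.blt 0 m && Nat.blt m (2 ^ 30) && [2, 3, 5, 7, 11, 23].prod ^ 30 % m == 0 &&
    [2, 3, 5, 7, 11, 23].all fun r => (List.range 30).all fun j =>
      m % r ^ (j + 1) != 0 || r ^ (j + 1) % q != 1

theorem ppOK_spec {m q r j : ℕ} (h : ppOK m q = true) (hr : r.Prime) (hj : r ^ (j + 1) ∣ m) :
    r ^ (j + 1) % q ≠ 1 := by
  simp only [ppOK, Bool.and_eq_true, Nat.blt_eq, beq_iff_eq, List.all_eq_true, List.mem_range,
    Bool.or_eq_true, bne_iff_ne] at h
  obtain ⟨a, h1, h2⟩ := (Prime.dvd_prod_iff hr.prime).mp (hr.dvd_of_dvd_pow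
    (((dvd_pow_self r j.succ_ne_zero).trans hj).trans (Nat.dvd_of_mod_eq_zero h.1.2)))
  have h3 : a.Prime := by revert a; simp only [List.forall_mem_cons]; norm_num
  obtain rfl := (Nat.prime_dvd_prime_iff_eq hr h3).mp h2
  refine (h.2 r h1 j (not_le.mp fun e => ?_)).resolve_left (not_not.mpr (Nat.mod_eq_zero_of_dvd hj))
  exact absurd ((Nat.pow_le_pow_left hr.two_le 30).trans ((Nat.pow_le_pow_right hr.pos
    (by omega)).trans (Nat.le_of_dvd h.1.1.1 hj))) h.1.1.2.not_ge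

/-- The conditions on the orders of the centralizers. -/
def kOK (p q e k k' : ℕ) : Bool :=
  ((k % q == 0) == (k' % p == 0)) && (e % q != 0 || !ppOK k q || k' % k == 0)

/-- The lower bounds for the degrees of defect zero. -/
def lowOK (p q : ℕ) (A B : Opt) : Bool :=
  (B.2.1 % 2 != 0 || A.2.2.all fun r => r.1 % q != 0 || Nat.ble (3 * q) r.1) &&
  (A.2.1 % 2 != 0 || B.2.2.all fun r => r.1 % p != 0 || Nat.ble (3 * p) r.1)

/-- The lower bound given by a common centralizing element. -/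
def selfOK (p q : ℕ) (A : Opt) : Bool :=
  A.1 % q != 0 || A.2.1 == 1 || !ppOK A.2.1 q ||
    A.2.2.all fun r => r.1 % q != 0 || Nat.ble (2 * (p * q)) r.1

variable {G : Type*} [Group G] [Finite G] {p q : ℕ} [hp : Fact p.Prime] [hq : Fact q.Prime]
  {x w : G} {ζ ξ : ℂ}

theorem le_cent_of_norm (hw : orderOf w = q) {R : Subgroup G} (hR : w ∈ normalizer (R : Set G))
    (hc : ¬ q ∣ Nat.card R) {m : ℕ} (hm : Nat.card R ∣ m) (h : ppOK m q = true) : R ≤ CC w := by
  refine inf_eq_left.mp (Coprime.eq_of_forall_invariant_pgroup_le (A := zpowers w)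
    (zpowers_le.mpr hR) (by rw [Nat.card_zpowers, hw]; exact hq.out.coprime_iff_not_dvd.mpr hc)
    (Or.inl inferInstance) inf_le_left fun r P hr h1 h2 _ h3 => le_inf h1 ?_)
  have := Fact.mk hr
  obtain ⟨k, hk⟩ := IsPGroup.iff_card.1 h2
  obtain ⟨i, hi⟩ := IsPGroup.iff_card.1 (h2.to_inf_left (K := centralizer ({w} : Set G)))
  have h4 := Transfer.card_modEq_card_inf_centralizer (q := q) (h3 (mem_zpowers w))
    ⟨1, by rw [pow_one, ← hw, pow_orderOf_eq_one]⟩
  have h5 := card_dvd_of_le h1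
  refine fun y hy => mem_CC.mpr (mem_centralizer_singleton_iff.mp ((eq_of_le_of_card_ge
    (inf_le_left : P ⊓ centralizer ({w} : Set G) ≤ P) ?_).ge hy).2).symm
  rw [hk, hi] at *
  refine Nat.pow_le_pow_right hr.pos (not_lt.mp fun e => ?_)
  obtain ⟨j, rfl⟩ := Nat.exists_eq_add_of_lt e
  refine ppOK_spec h hr (j := j) (((pow_dvd_pow r (by omega)).trans h5).trans hm) ?_
  rw [add_assoc, pow_add] at h4
  exact Eq.trans (Nat.ModEq.cancel_left_of_coprime (c := r ^ i) (b := 1)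
    (hq.out.coprime_iff_not_dvd.mpr fun e => hc ((e.trans (pow_dvd_pow r (by omega))).trans h5))
    (by rwa [mul_one])) (Nat.mod_eq_of_lt hq.out.one_lt)

theorem card_of_NN_le (hs : Syl p x) {H : Subgroup G} (h : NN x ≤ H) :
    ∃ s, s % p = 1 ∧ Nat.card H = s * (p * kk p x * ee x) := by
  have hx := h (CC_le_NN x (self_mem_CC x))
  refine ⟨_, Eq.trans (card_sylow_modEq_one p H) (Nat.mod_eq_of_lt hp.out.one_lt), ?_⟩
  rw [← card_sylow_mul (hs.subgroup hx), ← card_CC_eq hs, ← card_NN,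
    ← Nat.card_congr (subgroupOfEquivOfLe h).toEquiv, NN, NN, subgroupOf_normalizer_eq
      (zpowers_le.mpr hx)]
  rw [eq_of_le_of_card_ge (H := zpowers (⟨x, hx⟩ : H)) (K := (zpowers x).subgroupOf H)
    (zpowers_le.mpr (mem_zpowers x)) (by
      rw [Nat.card_congr (subgroupOfEquivOfLe (zpowers_le.mpr hx)).toEquiv, hs.card_zpowers,
        (hs.subgroup hx).card_zpowers])]

theorem KK_le (hs : Syl p x) (ht : Syl q w) (hw : w ∈ NN x) (hc : ¬ q ∣ Nat.card (CC x)) {m : ℕ}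
    (hm : kk p x ∣ m) (h : ppOK m q = true) : hs.KK ≤ ht.KK := fun y hy =>
  have hK : ¬ q ∣ Nat.card hs.KK := fun h => hc (h.trans (card_dvd_of_le hs.KK_le_CC))
  ⟨le_cent_of_norm ht.ord (mem_normalizer_fintype fun _ => hs.conj_mem_KK hw) hK
    (card_KK hs ▸ hm) h hy, fun e => hK (e.trans (Subgroup.orderOf_dvd_natCard _ hy))⟩

theorem kOK_of (hs : Syl p x) (ht : Syl q w) : kOK p q (ee x) (kk p x) (kk q w) = true := by
  rw [kOK, Bool.and_eq_true, beq_iff_eq, Bool.eq_iff_iff]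
  simp only [beq_iff_eq, Bool.or_eq_true, bne_iff_ne, Bool.not_eq_true', or_iff_not_imp_left,
    not_not, ← Nat.dvd_iff_mod_eq_zero]
  refine ⟨⟨dvd_kk_symm hs ht, dvd_kk_symm ht hs⟩, fun h => ?_⟩
  rw [Classical.not_imp] at h
  obtain ⟨u, hu, h1, h2⟩ := exists_syl_mem_NN hs h.1 ht.nsq
  rw [kk_eq ht hu, ← card_KK hs, ← card_KK hu]
  exact card_dvd_of_le (KK_le hs hu h1 h2 dvd_rfl (by simpa using h.2))

variable [IsSimpleGroup G]

theorem lowOK_of (hna : ∃ a b : G, a * b ≠ b * a) {D : PrinData p x ζ} {E : PrinData q w ξ}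
    (hs : Syl p x) (ht : Syl q w) {A B : Opt} (hA : IsOpt D A) (hB : IsOpt E B) :
    lowOK p q A B = true := by
  simp only [lowOK, Bool.and_eq_true, Bool.or_eq_true, bne_iff_ne, or_iff_not_imp_left, not_not,
    List.all_eq_true, Nat.ble_eq, ← Nat.dvd_iff_mod_eq_zero, hA.k, hB.k]
  refine ⟨fun h r hr h' => ?_, fun h r hr h' => ?_⟩
  · obtain ⟨χ, -, rfl⟩ := hA.exists hr
    exact three_mul_le hna ht h h'
  · obtain ⟨χ, -, rfl⟩ := hB.exists hr
    exact three_mul_le hna hs h h'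

theorem IsOpt.selfOK (hna : ∃ a b : G, a * b ≠ b * a) {D : PrinData p x ζ} (hs : Syl p x)
    (h2 : ¬ q ^ 2 ∣ Nat.card G) {A : Opt} (hA : IsOpt D A) : selfOK p q A = true := by
  simp only [ChTab.selfOK, Bool.or_eq_true, bne_iff_ne, or_iff_not_imp_left, not_not,
    List.all_eq_true, Nat.ble_eq, ← Nat.dvd_iff_mod_eq_zero, hA.k, hA.e, beq_iff_eq,
    Bool.not_eq_true', Classical.not_imp, Bool.not_eq_false]
  intro h r hr h'
  obtain ⟨χ, hχ, rfl⟩ := hA.exists hr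
  obtain ⟨u, hu, h1, h3⟩ := exists_syl_mem_NN hs h.1.1 h2
  obtain ⟨η, hη, ⟨E⟩⟩ := exists_data hu
  obtain ⟨⟨y, hy⟩, h4⟩ := (ne_bot_iff_exists_ne_one (H := hs.KK)).mp fun e => h.1.2 (by
    rw [← card_KK hs, e, card_bot])
  have h5 := KK_le hs hu h1 h3 dvd_rfl h.2 hy
  exact two_mul_mul_le hna (D := D) (E := E) hs hu (fun e => h3 (e ▸ card_CC_eq hs ▸
    dvd_mul_right _ _)) (fun e => h4 (Subtype.ext e)) (mem_CC.mp hy.1) hy.2 (mem_CC.mp h5.1) h5.2
    (or_assoc.mp (Or.inl (mem_Bk.mp hχ).2)) (Or.inr (Or.inr h')) (mem_Bk.mp hχ).1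

end CfsgLib.ChTab
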