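import Mathlib
import Cfsg.Agent.Lib.ChTab.Blk
import Cfsg.Agent.Lib.ChTab.Enum4
import Cfsg.Agent.Lib.ChTab.Rows

/-!
The enumeration of a principal block of which some rows are known; the possible values of `vv`.
-/

set_option autoImplicit false

namespace CfsgLib.ChTab

open Cfsg CfsgLib.Char CfsgLib.Block CfsgLib.DefectOne CfsgLib.DefectOne.B43 CfsgLib.Tuan
  Subgroup Finset

/-- Evaluation of a list of rows. -/
noncomputable def frcP (l : List (ℕ × ℤ)) : (List (ℕ × ℤ) → Bool) → Bool :=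
  List.rec (fun k => k []) (fun e _ ih k => frc e.1 fun a => frcI e.2 fun b =>
    ih fun l' => k ((a, b) :: l')) l

theorem frcP_eq (l : List (ℕ × ℤ)) (k : List (ℕ × ℤ) → Bool) : frcP l k = k l := by
  induction l generalizing k with
  | nil => rfl
  | cons e l ih =>
    change (frcI e.2 fun b => frcP l fun l' => k ((e.1, b) :: l')) = _
    rw [frcI_eq, ih]

/-- The function in the congruences of Brauer and Tuan. -/
def btf (q : ℕ × ℕ) (d : ℕ) : ℤ := if d % q.1 ^ (q.2 - 1) = 0 then d else 0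

/-- The search for `n` further rows from `L`. -/
noncomputable def renum (N p n bd : ℕ) (must L : List (ℕ × ℤ)) (ex : List (ℕ → ℤ))
    (qs : List (ℕ × ℕ)) (good : List (ℕ × ℤ) → Bool) : Bool :=
  enumQ L [(fun _ => 1, 0, n)] (ex.map fun f => (fun r => r.2 * f r.1, 0, -rsum p f (0, 0, must)))
    [(fun r => r.1 * r.1, p * p, N - 1 - bd - (must.map fun r => (r.1 : ℤ) * r.1).sum)]
    (qs.map fun q => (fun r => r.2 * btf q r.1, (p - 1) * q.1 ^ q.2, -rsum p (btf q) (0, 0, must)))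
    (fun l => frcP (l ++ must) good) (n + 2)

/-- The possible values of `vv`. -/
noncomputable def vls (p : ℕ) (C : Cf) (d : ℕ) : List ℤ :=
  if d % p = 0 then [0] else
    ((C.2.2.1 :: C.2.2.2).flatMap fun S => [S.x p d, S.y p d]).filter (· ≠ 0)

variable {G : Type*} [Group G] [Finite G] {p : ℕ} [hp : Fact p.Prime] {x : G} {ζ : ℂ}

theorem exists_isOpt (D : PrinData p x ζ) : ∃ A, IsOpt D A :=
  ⟨(_, _, _), rfl, rfl, Multiset.coe_toList _⟩

theorem IsOpt.rsum_id {D : PrinData p x ζ} {A : Opt} (h : IsOpt D A) (hs : Syl p x)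
    (hζ : IsPrimitiveRoot ζ p) : ChTab.rsum p (fun d => d) A = 0 := by
  rw [h.rsum hs hζ, show sgn (fun d => (d : ℤ)) = fun s => s from funext Int.sign_mul_natAbs,
    Multiset.map_id', ← zz_eq, sub_self, mul_zero]

theorem renum_sound {D : PrinData p x ζ} (hs : SC p x) (hζ : IsPrimitiveRoot ζ p) {N n bd : ℕ}
    (hN : Nat.card G = N) {must L : List (ℕ × ℤ)} {ex : List (ℕ → ℤ)} {qs : List (ℕ × ℕ)}
    {good : List (ℕ × ℤ) → Bool} (h : renum N p n bd must L ex qs good = true)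
    {M : Multiset (ℕ × ℤ)} (hM : (Bk D).val.map (fun χ => (dg χ, vv p x χ)) = M + must)
    (hL : ∀ r ∈ M, r ∈ L) (hn : M.card = n)
    (hex : ∀ f ∈ ex, ∀ A, IsOpt D A → rsum p f A = 0)
    (hq : ∀ q ∈ qs, q.1.Prime ∧ q.1 ^ q.2 ∣ N ∧ ¬ q.1 ^ (q.2 + 1) ∣ N ∧ q.2 ≠ 0)
    (hq' : ∀ q ∈ qs, p % q.1 ≠ 0) (T : Finset (IrrCharacter G)) (hT : ∀ χ ∈ T, p ∣ dg χ)
    (hbd : ∑ χ ∈ T, dg χ * dg χ = bd) : ∃ l : List (ℕ × ℤ),
      (l : Multiset (ℕ × ℤ)) = (Bk D).val.map (fun χ => (dg χ, vv p x χ)) ∧ good l = true := by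
  classical
  subst hN
  obtain ⟨A, hA⟩ := exists_isOpt D
  have h1 : ∀ f, rsum p f A = (M.map fun r => r.2 * f r.1).sum + rsum p f (0, 0, must) := fun f => by
    rw [rsum, rsum, ← Multiset.sum_coe, ← Multiset.map_coe, hA.rows, hM, Multiset.map_add,
      Multiset.sum_add, Multiset.map_coe, Multiset.sum_coe]
    ring
  obtain ⟨l, a, b⟩ := enumQ_sound h M hL (by simp [hn]) (by
      simp only [List.forall_mem_map]
      exact fun f hf => eq_neg_of_add_eq_zero_left (h1 f ▸ hex f hf A hA)) (by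
      have a1 := hA.sum hs (fun d v => if v = 0 then 0 else (d : ℤ) * d) (by simp)
      have a2 := sum_dg_sq_int (G := G)
      have a3 : ∀ χ, vv p x χ = 0 ↔ p ∣ dg χ := fun χ => ⟨fun e => by
        simpa [e, Int.natCast_dvd_natCast] using dvd_add_vv hs.syl χ, vv_dz hs.syl⟩
      have a4 : ∀ r ∈ A.2.2, r.2 ≠ 0 := fun r hr => by
        obtain ⟨χ, c, rfl⟩ := hA.exists hr
        exact fun e => not_dvd_of_b0 D hs.syl hζ (mem_Bk.mp c).2 ((a3 χ).mp e)
      obtain ⟨k, hk⟩ : p * p ∣ ∑ χ ∈ univ.filter (fun χ => vv p x χ = 0) \ T, dg χ * dg χ :=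
        dvd_sum fun χ hχ => by
          have := (a3 χ).mp (mem_filter.mp (mem_sdiff.mp hχ).1).2
          exact mul_dvd_mul this this
      have a5 := sum_sdiff (f := fun χ => dg χ * dg χ) (s₁ := T)
        (s₂ := univ.filter fun χ => vv p x χ = 0) fun χ hχ =>
          mem_filter.mpr ⟨mem_univ _, (a3 χ).mpr (hT χ hχ)⟩
      rw [hk, hbd] at a5
      have a6 := congrArg (Nat.cast : ℕ → ℤ) a5
      have := hp.out.two_le
      rw [if_neg (by omega), List.map_congr_left fun r hr => if_neg (a4 r hr), ← Multiset.sum_coe,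
        ← Multiset.map_coe, hA.rows, hM, Multiset.map_add, Multiset.sum_add, Multiset.map_coe,
        Multiset.sum_coe, sum_ite, sum_const_zero] at a1
      rw [← sum_filter_add_sum_filter_not univ fun χ => vv p x χ = 0] at a2
      push_cast at a1 a6
      simp only [List.forall_mem_cons, List.not_mem_nil, false_imp_iff, implies_true, and_true]
      exact ⟨k, by push_cast; linarith⟩) (by
      simp only [List.forall_mem_map]
      intro q h2
      have a1 := List.all_eq_true.mp (hA.btOK hs.syl hζ hq) q h2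
      rw [hA.k, kk_of_sc hs, mul_one, Bool.or_eq_true, beq_iff_eq, beq_iff_eq,
        or_iff_right (hq' q h2)] at a1
      have a2 := Int.dvd_of_emod_eq_zero a1
      rw [show (fun d : ℕ => if d % q.1 ^ (q.2 - 1) = 0 then (d : ℤ) else 0) = btf q from rfl,
        h1] at a2
      rw [Int.modEq_iff_dvd, Nat.cast_mul, Nat.cast_pred hp.out.pos, ← dvd_neg, neg_sub,
        sub_neg_eq_add]
      exact a2)
  rw [frcP_eq] at b
  exact ⟨_, by rw [hM, ← a, Multiset.coe_add], b⟩

theorem mem_vls (hs : Syl p x) (hp2 : p ≠ 2) {N : ℕ} (hN : Nat.card G = N) (χ : IrrCharacter G) :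
    vv p x χ ∈ vls p (mkCf N p (ee x, kk p x)) (dg χ) := by
  classical
  subst hN
  rw [vls]
  split_ifs with h
  · rw [vv_dz hs (Nat.dvd_of_mod_eq_zero h)]; exact List.mem_singleton_self _
  obtain ⟨ζ, hζ, ⟨D⟩⟩ := exists_data hs
  obtain ⟨Λ, sh, X, Y, X0, Y0, h1, h2, -, h4, -⟩ := exists_sys D hs hζ hp2
  have key : ∀ {B S X Y}, BD hs B S X Y → χ ∈ B → vv p x χ ∈ [S.x p (dg χ), S.y p (dg χ)] ∧
      decide (vv p x χ ≠ 0) = true := fun h a => ⟨by
    rcases (h.mem χ).mp a with b | b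
    · simp [h.vx χ b]
    · simp [h.vy χ b], decide_eq_true (h.ne χ a)⟩
  by_cases a : χ ∈ D.X ∪ Ys D
  · exact List.mem_filter.mpr ⟨List.mem_flatMap.mpr ⟨_, List.mem_cons_self, (key h2 a).1⟩,
      (key h2 a).2⟩
  · obtain ⟨B, b, c⟩ := h4 χ (fun e => h (Nat.mod_eq_zero_of_dvd e)) a
    exact List.mem_filter.mpr ⟨List.mem_flatMap.mpr ⟨_, List.mem_cons_of_mem _ (h1 B b).1,
      (key (h1 B b).2.1 c).1⟩, (key (h1 B b).2.1 c).2⟩

open Classical in
/-- The non-exceptional and the exceptional rows. -/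
theorem rows_split (D : PrinData p x ζ) (hs : Syl p x) (hζ : IsPrimitiveRoot ζ p) :
    (Bk D).val.map (fun χ => (dg χ, vv p x χ)) =
      (D.X.erase (irrOne G)).val.map (fun χ => (dg χ, vv p x χ)) +
        Multiset.replicate ((p - 1) / ee x) (dg (D.Y 1), vv p x (D.Y 1)) := by
  have h1 : (Bk D).val = (D.X.erase (irrOne G)).val + (Ys D).val := by
    rw [← disjUnion_val _ _ (disjoint_of_subset_left (erase_subset _ _) (disjoint_X_Ys D)),
      disjUnion_eq_union, Bk, erase_union_distrib, erase_eq_of_notMem (s := Ys D)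
        fun h => disjoint_left.mp (disjoint_X_Ys D) D.one_mem h]
  rw [h1, Multiset.map_add, ← card_Ys D hs]
  refine congrArg _ (Multiset.eq_replicate.mpr ⟨Multiset.card_map _ _, fun r hr => ?_⟩)
  obtain ⟨χ, h, rfl⟩ := Multiset.mem_map.mp hr
  rw [dg_of_mem_Ys D h, vv_Y D hs hζ h, dg_of_mem_Ys D (Y_mem_Ys D 1),
    vv_Y D hs hζ (Y_mem_Ys D 1)]

theorem card_Bk (D : PrinData p x ζ) (hs : Syl p x) (hζ : IsPrimitiveRoot ζ p) :
    (Bk D).card = ee x - 1 + (p - 1) / ee x := by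
  classical
  have := congrArg Multiset.card (rows_split D hs hζ)
  rwa [Multiset.card_add, Multiset.card_map, Multiset.card_map, Multiset.card_replicate, card_val,
    card_val, card_erase_of_mem D.one_mem, D.card_X, card_U D hs] at this

end CfsgLib.ChTab
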